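import Cfsg.Agent.Omega.TitsIso.Cert
import Cfsg.Agent.Omega.TitsIso.Data

/-!
Kernel check of a part of the coset enumeration.
-/

set_option autoImplicit false
set_option maxRecDepth 100000

namespace Cfsg.Agent.Omega.TitsIso.Cert

open Cfsg.Agent.Omega.TitsIso.Machine

theorem check2 : run 3510 (fun s => beqSt s st3) seg2 st2 = true := by decide +kernel

end Cfsg.Agent.Omega.TitsIso.Cert
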