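import Cfsg.Agent.Omega.TitsIso.Machine

/-!
Soundness of the machine: the tables contain only facts which hold in the given action.
-/

set_option autoImplicit false

namespace Cfsg.Agent.Omega.TitsIso.Machine

variable {M Ω : Type*} [Group M] [MulAction M Ω] (gen : Lt → M)

/-- the action of a word, the first letter acting first -/
def act (gen : Lt → M) : List Lt → Ω → Ω
  | [], x => x
  | g :: w, x => act gen w (gen g • x)

/-- the value of a word -/
def val (gen : Lt → M) : List Lt → M
  | [] => 1
  | g :: w => gen g * val gen w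

theorem act_eq {gen : Lt → M} (hinv : ∀ g, gen g * gen g = 1) (w : List Lt) (x : Ω) :
    act gen w x = (val gen w)⁻¹ • x := by
  induction w generalizing x with
  | nil => rw [act, val, inv_one, one_smul]
  | cons g w ih =>
    rw [act, val, ih, mul_inv_rev, mul_smul, inv_eq_of_mul_eq_one_left (hinv g)]

/-- all facts of the state hold -/
def Valid (rep : ℕ → Ω) (s : St) (c : ℕ) : Prop :=
  ∀ g n m, look s g n = m + 1 → n < c ∧ m < c ∧ gen g • rep n = rep m

variable {gen} {rep : ℕ → Ω}

theorem Valid.put {s : St} {c : ℕ} (hs : Valid gen rep s c) (hc : c ≤ 4095) {g : Lt} {f b : ℕ}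
    (hf : f < c) (hb : b < c) (h0 : look s g f = 0) (h : gen g • rep f = rep b) :
    Valid gen rep (put s g f b) c := by
  intro g' n m hm
  rw [look_put (by omega) h0] at hm
  split at hm
  · rename_i h'
    obtain ⟨rfl, rfl⟩ := h'
    have : m = b := by omega
    subst this
    exact ⟨hf, hb, h⟩
  · exact hs _ _ _ hm

theorem edge_spec {s : St} {c : ℕ} (hinv : ∀ g, gen g * gen g = 1) (hs : Valid gen rep s c)
    (hc : c ≤ 4095) {g : Lt} {f b : ℕ} (hf : f < c) (hb : b < c) (h0 : look s g f = 0)
    (h : gen g • rep f = rep b) {β : Type*} :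
    ∃ s', Valid gen rep s' c ∧ ∀ k : St → β, edge s k g f b = k s' := by
  have h1 := hs.put hc hf hb h0 h
  have h' : gen g • rep b = rep f := by rw [← h, smul_smul, hinv, one_smul]
  cases hl : look (Machine.put s g f b) g b with
  | zero =>
    refine ⟨_, h1.put hc hb hf hl h', fun k => ?_⟩
    unfold edge
    rw [putK_eq, hl]
    exact putK_eq _ _ _ _ _
  | succ m =>
    refine ⟨_, h1, fun k => ?_⟩
    unfold edge
    rw [putK_eq, hl]

theorem bwd_spec {s : St} {c : ℕ} (hinv : ∀ g, gen g * gen g = 1) (hs : Valid gen rep s c) {n : ℕ}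
    (hn : n < c) (w : List Lt) : ∀ b, bwd s n w = b + 1 → b < c ∧ act gen w (rep b) = rep n := by
  induction w with
  | nil =>
    intro b hb
    have : b = n := by
      have : n + 1 = b + 1 := hb
      omega
    subst this
    exact ⟨hn, rfl⟩
  | cons g w ih =>
    intro b hb
    have hb' : (Nat.rec (nat_lit 0) (fun m _ => look s g m) (bwd s n w) : ℕ) = b + 1 := hb
    cases hm : bwd s n w with
    | zero => rw [hm] at hb'; exact absurd hb' (Nat.succ_ne_zero b).symm
    | succ m =>
      rw [hm] at hb'
      have hb2 : look s g m = b + 1 := hb'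
      obtain ⟨-, h2, h3⟩ := hs _ _ _ hb2
      obtain ⟨-, h4⟩ := ih m hm
      refine ⟨h2, ?_⟩
      rw [act, ← h3, smul_smul, hinv, one_smul, h4]

theorem scan_spec {s : St} {c : ℕ} (hinv : ∀ g, gen g * gen g = 1) (hs : Valid gen rep s c)
    (hc : c ≤ 4095) {n : ℕ} (hn : n < c) {β : Type*} (w : List Lt) :
    ∀ f, f < c → act gen w (rep f) = rep n →
    ∃ s', Valid gen rep s' c ∧ ∀ k : St → β, scan s n (edge s k) (k s) w f = k s' := by
  induction w with
  | nil => intro f _ _; exact ⟨s, hs, fun k => rfl⟩
  | cons g w ih =>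
    intro f hf ha
    rw [act] at ha
    cases hl : look s g f with
    | zero =>
      cases hb : bwd s n w with
      | zero =>
        refine ⟨s, hs, fun k => ?_⟩
        change (Nat.rec (Nat.rec (k s) (fun b _ => edge s k g f b) (bwd s n w))
          (fun m _ => scan s n (edge s k) (k s) w m) (look s g f) : β) = _
        rw [hl, hb]
        rfl
      | succ b =>
        obtain ⟨h1, h2⟩ := bwd_spec hinv hs hn w b hb
        have h3 : gen g • rep f = rep b := by
          have : act gen w (gen g • rep f) = act gen w (rep b) := by rw [ha, h2]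
          rw [act_eq hinv, act_eq hinv] at this
          exact MulAction.injective _ this
        obtain ⟨s', h4, h5⟩ := edge_spec (β := β) hinv hs hc hf h1 hl h3
        refine ⟨s', h4, fun k => ?_⟩
        change (Nat.rec (Nat.rec (k s) (fun b _ => edge s k g f b) (bwd s n w))
          (fun m _ => scan s n (edge s k) (k s) w m) (look s g f) : β) = _
        rw [hl, hb]
        exact h5 k
    | succ m =>
      obtain ⟨-, h1, h2⟩ := hs _ _ _ hl
      rw [h2] at ha
      obtain ⟨s', h4, h5⟩ := ih m h1 ha
      refine ⟨s', h4, fun k => ?_⟩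
      change (Nat.rec (Nat.rec (k s) (fun b _ => edge s k g f b) (bwd s n w))
          (fun m _ => scan s n (edge s k) (k s) w m) (look s g f) : β) = _
      rw [hl]
      exact h5 k

theorem step_spec {s : St} {c : ℕ} (hinv : ∀ g, gen g * gen g = 1) (hs : Valid gen rep s c)
    (hc : c ≤ 4095) {w : List Lt} (hw : val gen w = 1) (n : ℕ) {β : Type*} :
    ∃ s', Valid gen rep s' c ∧ ∀ k : St → β, step c s w n k = k s' := by
  by_cases hn : n < c
  · obtain ⟨s', h1, h2⟩ := scan_spec (β := β) hinv hs hc hn w n hn
      (by rw [act_eq hinv, hw, inv_one, one_smul])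
    refine ⟨s', h1, fun k => ?_⟩
    rw [← h2 k]
    have : Nat.ble (n + 1) c = true := Nat.ble_eq.mpr hn
    change (Bool.rec (k s) (scan s n (edge s k) (k s) w n) (Nat.ble (n + 1) c) : β) = _
    rw [this]
  · refine ⟨s, hs, fun k => ?_⟩
    have : Nat.ble (n + 1) c = false := by
      rw [← Bool.not_eq_true, Nat.ble_eq]; exact hn
    change (Bool.rec (k s) (scan s n (edge s k) (k s) w n) (Nat.ble (n + 1) c) : β) = _
    rw [this]

theorem seg_spec {c : ℕ} (hinv : ∀ g, gen g * gen g = 1)
    (hc : c ≤ 4095) {w : List Lt} (hw : val gen w = 1) (r : ℕ) {β : Type*} :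
    ∀ s, Valid gen rep s c → ∀ N : ℕ,
    ∃ s', Valid gen rep s' c ∧ ∀ k : St → β, seg c w k r s N = k s' := by
  induction r with
  | zero => intro s hs N; exact ⟨s, hs, fun k => rfl⟩
  | succ r ih =>
    intro s hs N
    obtain ⟨s1, h1, h2⟩ := step_spec (β := β) hinv hs hc hw (N % 4096)
    obtain ⟨s2, h3, h4⟩ := ih s1 h1 (N / 4096)
    refine ⟨s2, h3, fun k => ?_⟩
    rw [← h4 k]
    change step c s w (N % 4096) (fun s' => seg c w k r s' (N / 4096)) = _
    rw [h2]

theorem run_spec {c : ℕ} (hinv : ∀ g, gen g * gen g = 1) (hc : c ≤ 4095) (l : List Seg)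
    (hl : ∀ p ∈ l, val gen p.w = 1) {β : Type*} :
    ∀ s, Valid gen rep s c → ∃ s', Valid gen rep s' c ∧ ∀ k : St → β, run c k l s = k s' := by
  induction l with
  | nil => intro s hs; exact ⟨s, hs, fun k => rfl⟩
  | cons p l ih =>
    intro s hs
    obtain ⟨s1, h1, h2⟩ := seg_spec (β := β) hinv hc (hl p (by simp)) p.c s hs p.N
    obtain ⟨s2, h3, h4⟩ := ih (fun q hq => hl q (by simp [hq])) s1 h1
    refine ⟨s2, h3, fun k => ?_⟩
    rw [← h4 k, ← h2 (run c k l)]
    rfl

theorem run_beq {c : ℕ} (hinv : ∀ g, gen g * gen g = 1) (hc : c ≤ 4095) (l : List Seg)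
    (hl : ∀ p ∈ l, val gen p.w = 1) {s t : St} (hs : Valid gen rep s c)
    (h : run c (fun s => beqSt s t) l s = true) : Valid gen rep t c := by
  obtain ⟨s', h1, h2⟩ := run_spec (β := Bool) hinv hc l hl s hs
  rw [h2] at h
  rwa [← beqSt_eq h]

theorem loops_spec (hc : 0 < 1) (l : List Lt) (hl : ∀ g ∈ l, gen g • rep 0 = rep 0) {β : Type*} :
    ∀ s, Valid gen rep s 1 → ∃ s', Valid gen rep s' 1 ∧ ∀ k : St → β, loops k l s = k s' := by
  induction l with
  | nil => intro s hs; exact ⟨s, hs, fun k => rfl⟩
  | cons g l ih =>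
    intro s hs
    cases h0 : look s g 0 with
    | zero =>
      have h1 := hs.put (by norm_num) hc hc h0 (hl g (by simp))
      obtain ⟨s2, h3, h4⟩ := ih (fun q hq => hl q (by simp [hq])) _ h1
      refine ⟨s2, h3, fun k => ?_⟩
      rw [← h4 k]
      change (Nat.rec (putK s g (nat_lit 0) (nat_lit 0) (loops k l)) (fun _ _ => k s)
        (look s g 0) : β) = _
      rw [h0]
      exact putK_eq _ _ _ _ _
    | succ m =>
      refine ⟨s, hs, fun k => ?_⟩
      change (Nat.rec (putK s g (nat_lit 0) (nat_lit 0) (loops k l)) (fun _ _ => k s)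
        (look s g 0) : β) = _
      rw [h0]

theorem tree_spec (hinv : ∀ g, gen g * gen g = 1) (r : ℕ) {β : Type*} :
    ∀ (rep : ℕ → Ω) (s : St) (m : ℕ), Valid gen rep s m → 0 < m → m ≤ 4095 → ∀ N : ℕ,
    ∃ (rep' : ℕ → Ω) (s' : St) (m' : ℕ), rep' 0 = rep 0 ∧ Valid gen rep' s' m' ∧ 0 < m' ∧
      m' ≤ 4095 ∧ ∀ k : St → ℕ → β, tree k r s m N = k s' m' := by
  induction r with
  | zero => intro rep s m hs hm hm' N; exact ⟨rep, s, m, rfl, hs, hm, hm', fun k => rfl⟩
  | succ r ih =>
    intro rep s m hs hm hm' N
    set x := N % 32768 with hx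
    set p := x / 8 with hp
    have key : ∀ k : St → ℕ → β, tree k (r + 1) s m N =
      (Bool.rec (k s m) (Bool.rec (k s m)
        (Nat.rec (putK s (lt8 x) p m fun s' => putK s' (lt8 x) m p fun s'' =>
          tree k r s'' (m + 1) (N / 32768)) (fun _ _ => k s m)
          (look s (lt8 x) p)) (Nat.ble m 4093)) (Nat.ble (p + 1) m) : β) := fun k => rfl
    by_cases h1 : p < m
    · have e1 : Nat.ble (p + 1) m = true := Nat.ble_eq.mpr h1
      by_cases h2 : m ≤ 4093
      · have e2 : Nat.ble m 4093 = true := Nat.ble_eq.mpr h2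
        cases h3 : look s (lt8 x) p with
        | zero =>
          set g := lt8 x with hg
          let rep' : ℕ → Ω := Function.update rep m (gen g • rep p)
          have hrep : ∀ n, n < m → rep' n = rep n := fun n hn =>
            Function.update_of_ne (by omega) _ _
          have hv : Valid gen rep' s (m + 1) := by
            intro g' n q hq
            obtain ⟨a1, a2, a3⟩ := hs g' n q hq
            exact ⟨by omega, by omega, by rw [hrep n a1, hrep q a2, a3]⟩
          have hmm : rep' m = gen g • rep p := Function.update_self _ _ _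
          have hv1 := hv.put (g := g) (f := p) (b := m) (by omega) (by omega) (by omega) h3
            (by rw [hrep p h1, hmm])
          have h4 : look (Machine.put s g p m) g m = 0 := by
            rw [look_put (by omega) h3, if_neg (by omega)]
            cases h5 : look s g m with
            | zero => rfl
            | succ q => exact absurd (hs g m q h5).1 (lt_irrefl m)
          have hv2 := hv1.put (g := g) (f := m) (b := p) (by omega) (by omega) (by omega) h4
            (by rw [hrep p h1, hmm, smul_smul, hinv, one_smul])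
          obtain ⟨rep2, s2, m2, b1, b2, b3, b4, b5⟩ := ih rep' _ (m + 1) hv2 (by omega) (by omega)
            (N / 32768)
          refine ⟨rep2, s2, m2, by rw [b1, hrep 0 hm], b2, b3, b4, fun k => ?_⟩
          rw [key, e1, e2, h3, ← b5 k]
          change putK s g p m _ = _
          rw [putK_eq, putK_eq]
        | succ q =>
          refine ⟨rep, s, m, rfl, hs, hm, hm', fun k => ?_⟩
          rw [key, e1, e2, h3]
      · have e2 : Nat.ble m 4093 = false := by
          rw [← Bool.not_eq_true, Nat.ble_eq]; exact h2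
        refine ⟨rep, s, m, rfl, hs, hm, hm', fun k => ?_⟩
        rw [key, e1, e2]
    · have e1 : Nat.ble (p + 1) m = false := by
        rw [← Bool.not_eq_true, Nat.ble_eq]; exact h1
      refine ⟨rep, s, m, rfl, hs, hm, hm', fun k => ?_⟩
      rw [key, e1]

theorem full1_spec {s : St} {g : Lt} (c : ℕ) (h : full1 s g c = true) :
    ∀ n < c, ∃ m, look s g n = m + 1 := by
  induction c with
  | zero => intro n hn; omega
  | succ c ih =>
    have h' : (Nat.rec false (fun _ _ => full1 s g c) (look s g c) : Bool) = true := h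
    cases hl : look s g c with
    | zero => rw [hl] at h'; exact absurd h' Bool.false_ne_true
    | succ m =>
      rw [hl] at h'
      intro n hn
      by_cases hnc : n = c
      · subst hnc; exact ⟨m, hl⟩
      · exact ih h' n (by omega)

theorem full_spec {s : St} {c : ℕ} (l : List Lt) (h : full s c l = true) :
    ∀ g ∈ l, ∀ n < c, ∃ m, look s g n = m + 1 := by
  induction l with
  | nil => intro g hg; simp at hg
  | cons a l ih =>
    have h' : (Bool.rec false (full s c l) (full1 s a c) : Bool) = true := h
    cases hl : full1 s a c with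
    | false => rw [hl] at h'; exact absurd h' Bool.false_ne_true
    | true =>
      rw [hl] at h'
      intro g hg
      rcases List.mem_cons.mp hg with rfl | hg
      · exact full1_spec c hl
      · exact ih h' g hg

end Cfsg.Agent.Omega.TitsIso.Machine
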