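import Cfsg.Agent.Omega.TitsIso.Rel
import Cfsg.Agent.Omega.TitsIso.Sound
import Cfsg.Agent.Omega.TitsIso.Chk0
import Cfsg.Agent.Omega.TitsIso.Chk1
import Cfsg.Agent.Omega.TitsIso.Chk2
import Cfsg.Agent.Omega.TitsIso.Chk3
import Cfsg.Agent.Omega.TitsIso.ChkInit

/-!
The subgroup `H0` has index at most `3510` (kernel-checked coset enumeration).
-/

set_option autoImplicit false

namespace Cfsg.Agent.Omega.TitsIso

open Cfsg.Agent.Omega.TitsIso.Machine Cfsg.Agent.Omega.TitsIso.Cert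
open scoped Pointwise

variable {M : Type*} [Group M]

/-- the generators as a function of the letters -/
def gens (Z : ZMod 8 → M) : Lt → M
  | ⟨.a, .a⟩ => Z 0
  | ⟨.a, .b⟩ => Z 1
  | ⟨.a, .c⟩ => Z 2
  | ⟨.a, .d⟩ => Z 3
  | ⟨.b, .a⟩ => Z 4
  | ⟨.b, .b⟩ => Z 5
  | ⟨.b, .c⟩ => Z 6
  | ⟨.b, .d⟩ => Z 7
  | ⟨.c, .a⟩ => C Z 0
  | ⟨.c, .b⟩ => C Z 1
  | ⟨.c, .c⟩ => C Z 2
  | ⟨.c, .d⟩ => C Z 3
  | ⟨.d, .a⟩ => C Z 4
  | ⟨.d, .b⟩ => C Z 5
  | ⟨.d, .c⟩ => C Z 6
  | ⟨.d, .d⟩ => C Z 7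

variable {Z : ZMod 8 → M}

theorem gens_inv (h : TitsRel Z) (g : Lt) : gens Z g * gens Z g = 1 := by
  obtain ⟨x, y⟩ := g
  cases x <;> cases y <;> first | exact h.sq _ | exact h.C_sq _

/-- commuting involutions -/
theorem rel_comm {a b : M} (ha : a * a = 1) (hb : b * b = 1) (h : a * b = b * a) :
    a * (b * (a * (b * 1))) = 1 := by
  have h3 : a * (b * (a * (b * 1))) = a * b * (a * b) := by
    rw [mul_one]; simp only [mul_assoc]
  rw [h3]
  nth_rewrite 2 [h]
  rw [mul_assoc, ← mul_assoc b b, hb, one_mul, ha]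

/-- relation of type `r`, `l` -/
theorem rel_tri {c a b : M} (hc : c⁻¹ = c) (ha : a * a = 1) (hb : b * b = 1)
    (h : c * a * c⁻¹ = b * a) : c * (a * (c * (a * (b * 1)))) = 1 := by
  rw [hc] at h
  have h2 : c * a * c * a * b = b * a * a * b := by rw [h]
  have h3 : c * (a * (c * (a * (b * 1)))) = c * a * c * a * b := by
    rw [mul_one]; simp only [mul_assoc]
  rw [h3, h2, mul_assoc b a a, ha, mul_one, hb]

/-- relation defining `C` -/
theorem rel_def {x y a b c : M} (hc : c * c = 1) (h : c = (x * y) ^ 2 * (a * b)) :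
    x * (y * (x * (y * (a * (b * (c * 1)))))) = 1 := by
  have h3 : x * (y * (x * (y * (a * (b * (c * 1)))))) = ((x * y) ^ 2 * (a * b)) * c := by
    rw [mul_one, pow_two]; simp only [mul_assoc]
  rw [h3, ← h, hc]

/-- relation of order five -/
theorem rel_five {a b : M} (h : (a * b) ^ 5 = 1) :
    a * (b * (a * (b * (a * (b * (a * (b * (a * (b * 1))))))))) = 1 := by
  rw [mul_one]
  simpa only [pow_succ, pow_zero, one_mul, mul_assoc] using h

theorem lem_p (h : TitsRel Z) (i j : ZMod 8) (e : i + 1 = j) :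
    Z i * (Z j * (Z i * (Z j * 1))) = 1 := by
  subst e; exact rel_comm (h.sq _) (h.sq _) (h.c1 i)

theorem lem_q (h : TitsRel Z) (i j : ZMod 8) (e : i + 2 = j) :
    Z i * (Z j * (Z i * (Z j * 1))) = 1 := by
  subst e; exact rel_comm (h.sq _) (h.sq _) (h.c2 i)

theorem lem_s (h : TitsRel Z) (i : ZMod 8) :
    C Z i * (Z i * (C Z i * (Z i * 1))) = 1 :=
  rel_comm (h.C_sq _) (h.sq _) (h.commute_C0 i)

theorem lem_t (h : TitsRel Z) (i j : ZMod 8) (e : i + 1 = j) :
    C Z i * (Z j * (C Z i * (Z j * 1))) = 1 := by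
  subst e; exact rel_comm (h.C_sq _) (h.sq _) (h.commute_C1 i)

theorem lem_u (h : TitsRel Z) (i j : ZMod 8) (e : i - 1 = j) :
    C Z i * (Z j * (C Z i * (Z j * 1))) = 1 := by
  subst e; exact rel_comm (h.C_sq _) (h.sq _) (h.commute_Cm1 i)

theorem lem_v (h : TitsRel Z) (i j : ZMod 8) (e : i + 2 = j) :
    C Z i * (Z j * (C Z i * (Z j * 1))) = 1 := by
  subst e; exact rel_comm (h.C_sq _) (h.sq _) (h.commute_C2 i)

theorem lem_r (h : TitsRel Z) (i j k : ZMod 8) (e : i + 3 = j) (e' : i + 2 = k) :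
    C Z i * (Z j * (C Z i * (Z j * (Z k * 1)))) = 1 := by
  subst e e'; exact rel_tri (h.C_inv _) (h.sq _) (h.sq _) (h.r i)

theorem lem_l (h : TitsRel Z) (i j k : ZMod 8) (e : i - 2 = j) (e' : i - 1 = k) :
    C Z i * (Z j * (C Z i * (Z j * (Z k * 1)))) = 1 := by
  subst e e'; exact rel_tri (h.C_inv _) (h.sq _) (h.sq _) (h.l i)

theorem lem_d (h : TitsRel Z) (i j k l : ZMod 8) (e : i - 1 = j) (e' : i + 2 = k)
    (e'' : i + 1 = l) :
    Z j * (Z k * (Z j * (Z k * (Z i * (Z l * (C Z i * 1)))))) = 1 := by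
  subst e e' e''; exact rel_def (h.C_sq _) rfl

theorem lem_o (h : TitsRel Z) (i j : ZMod 8) (e : i + 4 = j) :
    Z i * (Z j * (Z i * (Z j * (Z i * (Z j * (Z i * (Z j * (Z i * (Z j * 1))))))))) = 1 := by
  subst e; exact rel_five (h.o5 i)

theorem rels_ok (h : TitsRel Z) : ∀ w ∈ rels, val (gens Z) w = 1 := by
  have hl : List.Forall (fun w => val (gens Z) w = 1) rels := ⟨lem_p h 0 1 (by decide),
    lem_p h 1 2 (by decide),
    lem_p h 2 3 (by decide),
    lem_p h 3 4 (by decide),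
    lem_p h 4 5 (by decide),
    lem_p h 5 6 (by decide),
    lem_p h 6 7 (by decide),
    lem_p h 7 0 (by decide),
    lem_q h 0 2 (by decide),
    lem_q h 1 3 (by decide),
    lem_q h 2 4 (by decide),
    lem_q h 3 5 (by decide),
    lem_q h 4 6 (by decide),
    lem_q h 5 7 (by decide),
    lem_q h 6 0 (by decide),
    lem_q h 7 1 (by decide),
    lem_s h 0,
    lem_s h 1,
    lem_s h 2,
    lem_s h 3,
    lem_s h 4,
    lem_s h 5,
    lem_s h 6,
    lem_s h 7,
    lem_t h 0 1 (by decide),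
    lem_t h 1 2 (by decide),
    lem_t h 2 3 (by decide),
    lem_t h 3 4 (by decide),
    lem_t h 4 5 (by decide),
    lem_t h 5 6 (by decide),
    lem_t h 6 7 (by decide),
    lem_t h 7 0 (by decide),
    lem_u h 0 7 (by decide),
    lem_u h 1 0 (by decide),
    lem_u h 2 1 (by decide),
    lem_u h 3 2 (by decide),
    lem_u h 4 3 (by decide),
    lem_u h 5 4 (by decide),
    lem_u h 6 5 (by decide),
    lem_u h 7 6 (by decide),
    lem_v h 0 2 (by decide),
    lem_v h 1 3 (by decide),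
    lem_v h 2 4 (by decide),
    lem_v h 3 5 (by decide),
    lem_v h 4 6 (by decide),
    lem_v h 5 7 (by decide),
    lem_v h 6 0 (by decide),
    lem_v h 7 1 (by decide),
    lem_r h 0 3 2 (by decide) (by decide),
    lem_r h 1 4 3 (by decide) (by decide),
    lem_r h 2 5 4 (by decide) (by decide),
    lem_r h 3 6 5 (by decide) (by decide),
    lem_r h 4 7 6 (by decide) (by decide),
    lem_r h 5 0 7 (by decide) (by decide),
    lem_r h 6 1 0 (by decide) (by decide),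
    lem_r h 7 2 1 (by decide) (by decide),
    lem_l h 0 6 7 (by decide) (by decide),
    lem_l h 1 7 0 (by decide) (by decide),
    lem_l h 2 0 1 (by decide) (by decide),
    lem_l h 3 1 2 (by decide) (by decide),
    lem_l h 4 2 3 (by decide) (by decide),
    lem_l h 5 3 4 (by decide) (by decide),
    lem_l h 6 4 5 (by decide) (by decide),
    lem_l h 7 5 6 (by decide) (by decide),
    lem_d h 0 7 2 1 (by decide) (by decide) (by decide),
    lem_d h 1 0 3 2 (by decide) (by decide) (by decide),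
    lem_d h 2 1 4 3 (by decide) (by decide) (by decide),
    lem_d h 3 2 5 4 (by decide) (by decide) (by decide),
    lem_d h 4 3 6 5 (by decide) (by decide) (by decide),
    lem_d h 5 4 7 6 (by decide) (by decide) (by decide),
    lem_d h 6 5 0 7 (by decide) (by decide) (by decide),
    lem_d h 7 6 1 0 (by decide) (by decide) (by decide),
    lem_o h 0 4 (by decide),
    lem_o h 1 5 (by decide),
    lem_o h 2 6 (by decide),
    lem_o h 3 7 (by decide)⟩
  exact List.forall_iff_forall_mem.mp hl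

theorem segs_rels : (∀ p ∈ seg0, p.w ∈ rels) ∧ (∀ p ∈ seg1, p.w ∈ rels) ∧
    (∀ p ∈ seg2, p.w ∈ rels) ∧ (∀ p ∈ seg3, p.w ∈ rels) := by
  refine ⟨?_, ?_, ?_, ?_⟩ <;> decide +kernel

theorem mem_H0 (g : Lt) (hg : g ∈ loopL) : gens Z g ∈ H0 Z := by
  apply Subgroup.subset_closure
  simp only [loopL, List.mem_cons, List.not_mem_nil, or_false] at hg
  rcases hg with rfl | rfl | rfl | rfl | rfl | rfl | rfl | rfl | rfl
  · exact Or.inl (congrArg Z (by decide : (6 : ZMod 8) = -2))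
  · exact Or.inr (Or.inl (congrArg Z (by decide : (7 : ZMod 8) = -1)))
  · exact Or.inr (Or.inr (Or.inl rfl))
  · exact Or.inr (Or.inr (Or.inr (Or.inl rfl)))
  · exact Or.inr (Or.inr (Or.inr (Or.inr (Or.inl rfl))))
  · exact Or.inr (Or.inr (Or.inr (Or.inr (Or.inr (Or.inl
      (congrArg (C Z) (by decide : (6 : ZMod 8) = -2)))))))
  · exact Or.inr (Or.inr (Or.inr (Or.inr (Or.inr (Or.inr (Or.inl
      (congrArg (C Z) (by decide : (7 : ZMod 8) = -1))))))))
  · exact Or.inr (Or.inr (Or.inr (Or.inr (Or.inr (Or.inr (Or.inr (Or.inl rfl)))))))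
  · exact Or.inr (Or.inr (Or.inr (Or.inr (Or.inr (Or.inr (Or.inr (Or.inr rfl)))))))

theorem look_sInit (g : Lt) (n : ℕ) : look sInit g n = 0 := by
  have h : tab sInit g = 0 := by
    obtain ⟨x, y⟩ := g
    cases x <;> cases y <;> rfl
  rw [look_def, h, Nat.zero_shiftRight, Nat.zero_mod]

theorem mem_letters (g : Lt) : g ∈ letters := by
  obtain ⟨x, y⟩ := g
  cases x <;> cases y <;> decide

/-- the final table -/
theorem exists_rep (h : TitsRel Z) : ∃ rep : ℕ → M ⧸ H0 Z, rep 0 = ((1 : M) : M ⧸ H0 Z) ∧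
    Valid (gens Z) rep st4 3510 := by
  have hinv := gens_inv h
  have h0 : Valid (gens Z) (fun _ => ((1 : M) : M ⧸ H0 Z)) sInit 1 := by
    intro g n m hm
    rw [look_sInit] at hm
    exact absurd hm (Nat.succ_ne_zero m).symm
  obtain ⟨s1, h1, h2⟩ := loops_spec (β := Bool) Nat.zero_lt_one loopL (fun g hg => by
    rw [MulAction.Quotient.smul_coe, smul_eq_mul, mul_one, eq_comm, QuotientGroup.eq, inv_one,
      one_mul]
    exact mem_H0 g hg) sInit h0
  obtain ⟨rep, s2, m2, a1, a2, a3, a4, a5⟩ := tree_spec (β := Bool) hinv 3509 _ s1 1 h1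
    Nat.zero_lt_one (by norm_num) treeN
  have hc := checkInit
  rw [h2, a5] at hc
  cases hm : Nat.beq m2 3510 with
  | false => rw [hm] at hc; exact absurd hc Bool.false_ne_true
  | true =>
    rw [hm] at hc
    have hm2 : m2 = 3510 := Nat.eq_of_beq_eq_true hm
    have hs2 : s2 = st0 := beqSt_eq hc
    subst hm2 hs2
    obtain ⟨r0, r1, r2, r3⟩ := segs_rels
    have hr := rels_ok h
    have b1 := run_beq hinv a4 seg0 (fun p hp => hr _ (r0 p hp)) a2 check0
    have b2 := run_beq hinv a4 seg1 (fun p hp => hr _ (r1 p hp)) b1 check1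
    have b3 := run_beq hinv a4 seg2 (fun p hp => hr _ (r2 p hp)) b2 check2
    have b4 := run_beq hinv a4 seg3 (fun p hp => hr _ (r3 p hp)) b3 check3
    exact ⟨rep, a1, b4⟩

theorem indexLe.{u} : IndexLe.{u} := by
  intro M _ Z h hgen
  obtain ⟨rep, h0, hv⟩ := exists_rep h
  have hfull := full_spec letters checkFull
  have hstep : ∀ (g : Lt) (n : ℕ), n < 3510 → ∃ m < 3510, gens Z g • rep n = rep m := by
    intro g n hn
    obtain ⟨m, hm⟩ := hfull g (mem_letters g) n hn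
    exact ⟨m, (hv g n m hm).2.1, (hv g n m hm).2.2⟩
  have hZ : ∀ i : ZMod 8, ∃ g, gens Z g = Z i := by
    intro i
    fin_cases i
    exacts [⟨⟨.a, .a⟩, rfl⟩, ⟨⟨.a, .b⟩, rfl⟩, ⟨⟨.a, .c⟩, rfl⟩, ⟨⟨.a, .d⟩, rfl⟩,
      ⟨⟨.b, .a⟩, rfl⟩, ⟨⟨.b, .b⟩, rfl⟩, ⟨⟨.b, .c⟩, rfl⟩, ⟨⟨.b, .d⟩, rfl⟩]
  let S : Set (M ⧸ H0 Z) := rep '' {k | k < 3510}
  have hgS : ∀ g, gens Z g • S = S := by
    intro g
    have h1 : gens Z g • S ⊆ S := by
      rintro _ ⟨_, ⟨k, hk, rfl⟩, rfl⟩
      obtain ⟨m, hm, e⟩ := hstep g k hk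
      exact ⟨m, hm, e.symm⟩
    refine h1.antisymm ?_
    have h2 : gens Z g • (gens Z g • S) ⊆ gens Z g • S := Set.smul_set_mono h1
    rwa [smul_smul, gens_inv h, one_smul] at h2
  have hcl : Subgroup.closure (Set.range Z) ≤ MulAction.stabilizer M S := by
    rw [Subgroup.closure_le]
    rintro _ ⟨i, rfl⟩
    obtain ⟨g, hg⟩ := hZ i
    rw [← hg]
    exact hgS g
  have hall : ∀ y : M ⧸ H0 Z, y ∈ S := by
    intro y
    induction y using QuotientGroup.induction_on with
    | H x =>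
      have hx : x • S = S := by
        have : x ∈ MulAction.stabilizer M S := hcl (by rw [hgen]; trivial)
        exact this
      rw [← hx]
      refine ⟨rep 0, ⟨0, by norm_num, rfl⟩, ?_⟩
      change x • rep 0 = _
      rw [h0, MulAction.Quotient.smul_coe, smul_eq_mul, mul_one]
  have hfin : Set.Finite S := (Set.finite_lt_nat 3510).image rep
  have huniv : S = Set.univ := Set.eq_univ_of_forall hall
  have hcard : S.ncard ≤ 3510 := by
    have h1 := Set.ncard_image_le (f := rep) (Set.finite_lt_nat 3510)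
    have h2 : Set.ncard {k : ℕ | k < 3510} = 3510 := by
      have : {k : ℕ | k < 3510} = ((Finset.range 3510 : Finset ℕ) : Set ℕ) := by
        ext k; simp
      rw [this, Set.ncard_coe_finset, Finset.card_range]
    rwa [h2] at h1
  have hidx : (H0 Z).index = S.ncard := by
    rw [huniv, Set.ncard_univ]; rfl
  refine ⟨hidx ▸ hcard, ?_⟩
  rw [hidx, huniv]
  have : Finite (M ⧸ H0 Z) := by
    rw [← Set.finite_univ_iff, ← huniv]; exact hfin
  rw [Set.ncard_univ]
  exact Nat.card_pos.ne'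

end Cfsg.Agent.Omega.TitsIso
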