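import Cfsg.Agent.Omega.TitsIso.Rel

/-!
From the index bound to the isomorphism: a group `G` with the relations and `|G| ≤ |T|` is
isomorphic to the simple group `T` generated by elements with the relations.
-/

set_option autoImplicit false

namespace Cfsg.Agent.Omega.TitsIso

section Prod

variable {G T : Type*} [Group G] [Group T] {Zg : ZMod 8 → G} {Zt : ZMod 8 → T}

/-- the pairs -/
def Zp (Zg : ZMod 8 → G) (Zt : ZMod 8 → T) (i : ZMod 8) : G × T := (Zg i, Zt i)

theorem C_Zp (i : ZMod 8) : C (Zp Zg Zt) i = (C Zg i, C Zt i) := by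
  simp [C, Zp, Prod.mk_mul_mk]

theorem TitsRel.prod (hg : TitsRel Zg) (ht : TitsRel Zt) : TitsRel (Zp Zg Zt) where
  sq i := by simp only [Zp, Prod.mk_mul_mk, hg.sq, ht.sq]; rfl
  c1 i := by simp only [Zp, Prod.mk_mul_mk, hg.c1 i, ht.c1 i]
  c2 i := by simp only [Zp, Prod.mk_mul_mk, hg.c2 i, ht.c2 i]
  o4 i := by simp only [Zp, Prod.mk_mul_mk, Prod.pow_mk, hg.o4 i, ht.o4 i]; rfl
  o5 i := by simp only [Zp, Prod.mk_mul_mk, Prod.pow_mk, hg.o5 i, ht.o5 i]; rfl
  r i := by
    rw [C_Zp]; simp only [Zp, Prod.mk_mul_mk, Prod.inv_mk, hg.r i, ht.r i]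
  l i := by
    rw [C_Zp]; simp only [Zp, Prod.mk_mul_mk, Prod.inv_mk, hg.l i, ht.l i]

/-- relations pull back along injective homomorphisms -/
theorem TitsRel.of_injective {M N : Type*} [Group M] [Group N] (f : M →* N)
    (hf : Function.Injective f) {Z : ZMod 8 → M} (h : TitsRel (fun i => f (Z i))) : TitsRel Z := by
  have hC : ∀ i, f (C Z i) = C (fun i => f (Z i)) i := by intro i; simp [C]
  refine ⟨fun i => hf ?_, fun i => hf ?_, fun i => hf ?_, fun i => hf ?_, fun i => hf ?_,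
    fun i => hf ?_, fun i => hf ?_⟩
  · simpa using h.sq i
  · simpa using h.c1 i
  · simpa using h.c2 i
  · simpa using h.o4 i
  · simpa using h.o5 i
  · simpa [hC] using h.r i
  · simpa [hC] using h.l i

end Prod

theorem TitsRel.mul_pow_eq {M : Type*} [Group M] {Z : ZMod 8 → M} (h : TitsRel Z)
    (hne : Z 0 ≠ Z 4) {k l : ℕ} (hk : k < 5) (hl : l < 5)
    (hc : Commute (Z 0) (((Z 0 * Z 4) ^ k)⁻¹ * (Z 0 * Z 4) ^ l)) : k = l := by
  set u := Z 0 * Z 4 with hu
  have h5 : u ^ 5 = 1 := by have := h.o5 0; rwa [zero_add] at this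
  have hu1 : u ≠ 1 := by
    intro e
    apply hne
    have := mul_eq_one_iff_eq_inv.mp e
    rw [this, h.inv]
  have : Fact (Nat.Prime 5) := ⟨by norm_num⟩
  have ho : orderOf u = 5 := orderOf_eq_prime h5 hu1
  have hinv : Z 0 * u * (Z 0)⁻¹ = u⁻¹ := by
    rw [hu, mul_inv_rev, h.inv 0, h.inv 4, ← mul_assoc, h.sq, one_mul]
  have hd : Commute (Z 0) (u ^ ((l : ℤ) - k)) := by
    have : (u ^ k)⁻¹ * u ^ l = u ^ ((l : ℤ) - k) := by
      rw [sub_eq_neg_add, zpow_add, zpow_neg, zpow_natCast, zpow_natCast]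
    rwa [this] at hc
  have h2 : (u ^ ((l : ℤ) - k)) = (u ^ ((l : ℤ) - k))⁻¹ := by
    have e1 : Z 0 * u ^ ((l : ℤ) - k) * (Z 0)⁻¹ = u ^ ((l : ℤ) - k) := by
      rw [hd.eq, mul_inv_cancel_right]
    rw [← conj_zpow, hinv, inv_zpow] at e1
    exact e1.symm
  have h3 : u ^ (2 * ((l : ℤ) - k)) = 1 := by
    rw [two_mul, zpow_add]
    nth_rewrite 1 [h2]
    exact inv_mul_cancel _
  have h4 := orderOf_dvd_iff_zpow_eq_one.mpr h3
  rw [ho] at h4
  push_cast at h4
  omega

/-- **Goursat**: the isomorphism. -/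
theorem iso_of_rel.{u, v} {G : Type u} {T : Type v} [Group G] [Group T] [Finite G] [Finite T]
    [IsSimpleGroup T] (hI : IndexLe.{max u v}) {Zg : ZMod 8 → G} {Zt : ZMod 8 → T} (hg : TitsRel Zg) (ht : TitsRel Zt)
    (gen : Subgroup.closure (Set.range Zt) = ⊤) (hne : Zg 0 ≠ Zg 4)
    (hcard : Nat.card G ≤ Nat.card T)
    (hT : 703 ≤ (Subgroup.centralizer {Zt 0}).index) : Nonempty (G ≃* T) := by
  classical
  set S : Subgroup (G × T) := Subgroup.closure (Set.range (Zp Zg Zt)) with hS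
  have hmem : ∀ i, Zp Zg Zt i ∈ S := fun i => Subgroup.subset_closure ⟨i, rfl⟩
  set Z : ZMod 8 → S := fun i => ⟨Zp Zg Zt i, hmem i⟩ with hZ
  have hrel : TitsRel Z := TitsRel.of_injective S.subtype S.subtype_injective (hg.prod ht)
  have hgen : Subgroup.closure (Set.range Z) = ⊤ := by
    apply Subgroup.map_injective S.subtype_injective
    rw [MonoidHom.map_closure, ← Set.range_comp, ← MonoidHom.range_eq_map, Subgroup.range_subtype]
    exact hS.symm
  obtain ⟨hidx, hidx0⟩ := hI S Z hrel hgen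
  set p1 : S →* G := (MonoidHom.fst G T).comp S.subtype with hp1
  set p2 : S →* T := (MonoidHom.snd G T).comp S.subtype with hp2
  have hp1Z : ∀ i, p1 (Z i) = Zg i := fun i => rfl
  have hp2Z : ∀ i, p2 (Z i) = Zt i := fun i => rfl
  have hp2s : Function.Surjective p2 := by
    rw [← MonoidHom.range_eq_top, eq_top_iff, ← gen, Subgroup.closure_le]
    rintro _ ⟨i, rfl⟩
    exact ⟨Z i, hp2Z i⟩
  have hext : ∀ m : S, p1 m = 1 → p2 m = 1 → m = 1 := by
    intro m h1 h2
    apply Subtype.ext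
    exact Prod.ext h1 h2
  have hnorm : (p1.ker.map p2).Normal := Subgroup.Normal.map inferInstance p2 hp2s
  rcases hnorm.eq_bot_or_eq_top with hb | ht'
  · have hinj1 : Function.Injective p1 := by
      rw [injective_iff_map_eq_one]
      intro m hm
      apply hext m hm
      have : p2 m ∈ p1.ker.map p2 := ⟨m, hm, rfl⟩
      rw [hb] at this
      exact Subgroup.mem_bot.mp this
    have hc1 : Nat.card S ≤ Nat.card G := Nat.card_le_card_of_injective p1 hinj1
    have hc2 : Nat.card T ≤ Nat.card S := Nat.card_le_card_of_surjective p2 hp2s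
    have b1 : Function.Bijective p1 :=
      (Nat.bijective_iff_injective_and_card p1).mpr ⟨hinj1, by omega⟩
    have b2 : Function.Bijective p2 :=
      (Nat.bijective_iff_surjective_and_card p2).mpr ⟨hp2s, by omega⟩
    exact ⟨(MulEquiv.ofBijective p1 b1).symm.trans (MulEquiv.ofBijective p2 b2)⟩
  · exfalso
    have hlift : ∀ t : T, ∃ m : S, p1 m = 1 ∧ p2 m = t := by
      intro t
      have : t ∈ p1.ker.map p2 := by rw [ht']; trivial
      obtain ⟨m, hm, hmt⟩ := this
      exact ⟨m, hm, hmt⟩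
    choose lft hl1 hl2 using hlift
    let f : Fin 5 × (T ⧸ Subgroup.centralizer {Zt 0}) → S ⧸ Subgroup.centralizer {Z 0} :=
      fun x => QuotientGroup.mk (lft (x.2.out * ((Zt 0 * Zt 4) ^ (x.1 : ℕ))⁻¹) *
        (Z 0 * Z 4) ^ (x.1 : ℕ))
    have hf : Function.Injective f := by
      rintro ⟨k, t⟩ ⟨l, t'⟩ hkl
      have hkl' := QuotientGroup.eq.mp hkl
      rw [Subgroup.mem_centralizer_singleton_iff] at hkl'
      have h1 := congrArg p1 hkl'
      have h2 := congrArg p2 hkl'
      simp only [map_mul, map_inv, map_pow, hp1Z, hp2Z, hl1, hl2, mul_inv_rev, one_mul, inv_one,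
        mul_one] at h1 h2
      have hkl1 : (k : ℕ) = l := by
        refine hg.mul_pow_eq hne k.2 l.2 ?_
        exact h1.symm
      have hkl2 : k = l := Fin.ext hkl1
      subst hkl2
      have h3 : t = t' := by
        rw [← t.out_eq', ← t'.out_eq']
        rw [Quotient.eq'', QuotientGroup.leftRel_apply, Subgroup.mem_centralizer_singleton_iff]
        simp only [inv_inv] at h2
        have e : ((Zt 0 * Zt 4) ^ (k : ℕ))⁻¹ * ((Zt 0 * Zt 4) ^ (k : ℕ) * (Quotient.out t)⁻¹) *
            (Quotient.out t' * ((Zt 0 * Zt 4) ^ (k : ℕ))⁻¹ * (Zt 0 * Zt 4) ^ (k : ℕ)) =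
            (Quotient.out t)⁻¹ * Quotient.out t' := by group
        rw [e] at h2
        exact h2
      rw [h3]
    have hc := Nat.card_le_card_of_injective f hf
    have h1 : Nat.card (Fin 5 × (T ⧸ Subgroup.centralizer {Zt 0})) =
        5 * (Subgroup.centralizer {Zt 0}).index := by
      rw [Nat.card_prod, Nat.card_fin]; rfl
    have h2 : Nat.card (S ⧸ Subgroup.centralizer {Z 0}) =
        (Subgroup.centralizer {Z 0}).index := rfl
    rw [h1, h2] at hc
    have h3 : (Subgroup.centralizer {Z 0}).index ≤ (H0 Z).index :=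
      Subgroup.index_antitone hrel.H0_le_centralizer
    omega

end Cfsg.Agent.Omega.TitsIso
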