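import Mathlib

/-!
The relations between the eight central involutions of an apartment of the octagon of the Tits
group.  `C Z i = (Z (i-1) * Z (i+2)) ^ 2 * (Z i * Z (i+1))` is the involution of the odd vertex
`2 i + 1`.
-/

set_option autoImplicit false

namespace Cfsg.Agent.Omega.TitsIso

variable {M : Type*} [Group M]

/-- the involution attached to the odd vertex `2 i + 1` -/
def C (Z : ZMod 8 → M) (i : ZMod 8) : M := (Z (i - 1) * Z (i + 2)) ^ 2 * (Z i * Z (i + 1))

/-- the relations -/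
structure TitsRel (Z : ZMod 8 → M) : Prop where
  sq : ∀ i, Z i * Z i = 1
  c1 : ∀ i, Z i * Z (i + 1) = Z (i + 1) * Z i
  c2 : ∀ i, Z i * Z (i + 2) = Z (i + 2) * Z i
  o4 : ∀ i, (Z i * Z (i + 3)) ^ 4 = 1
  o5 : ∀ i, (Z i * Z (i + 4)) ^ 5 = 1
  r : ∀ i, C Z i * Z (i + 3) * (C Z i)⁻¹ = Z (i + 2) * Z (i + 3)
  l : ∀ i, C Z i * Z (i - 2) * (C Z i)⁻¹ = Z (i - 1) * Z (i - 2)

namespace TitsRel

variable {Z : ZMod 8 → M}

theorem c1' (h : TitsRel Z) (i : ZMod 8) : Z i * Z (i - 1) = Z (i - 1) * Z i := by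
  have := h.c1 (i - 1)
  rw [sub_add_cancel] at this
  exact this.symm

theorem c2' (h : TitsRel Z) (i : ZMod 8) : Z i * Z (i - 2) = Z (i - 2) * Z i := by
  have := h.c2 (i - 2)
  rw [sub_add_cancel] at this
  exact this.symm

theorem o5' (h : TitsRel Z) (i : ZMod 8) : (Z (i + 4) * Z i) ^ 5 = 1 := by
  have := h.o5 (i + 4)
  have e : i + 4 + 4 = i := by
    rw [add_assoc]; have : (4 + 4 : ZMod 8) = 0 := by decide
    rw [this, add_zero]
  rwa [e] at this

theorem inv (h : TitsRel Z) (i : ZMod 8) : (Z i)⁻¹ = Z i := inv_eq_of_mul_eq_one_left (h.sq i)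

/-- `C i = (Z (i-1) * Z (i+2)) ^ 2 * (Z i * Z (i+1))` commutes with the four inner involutions. -/
theorem core_comm (h : TitsRel Z) (i : ZMod 8) :
    Commute ((Z (i - 1) * Z (i + 2)) ^ 2) (Z (i - 1)) ∧
    Commute ((Z (i - 1) * Z (i + 2)) ^ 2) (Z (i + 2)) ∧
    Commute ((Z (i - 1) * Z (i + 2)) ^ 2) (Z i) ∧
    Commute ((Z (i - 1) * Z (i + 2)) ^ 2) (Z (i + 1)) := by
  have ha : Z (i - 1) * Z (i - 1) = 1 := h.sq _
  have hb : Z (i + 2) * Z (i + 2) = 1 := h.sq _
  have h4 : (Z (i - 1) * Z (i + 2)) ^ 4 = 1 := by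
    have := h.o4 (i - 1)
    have e : i - 1 + 3 = i + 2 := by ring
    rwa [e] at this
  set a := Z (i - 1) with hadef
  set b := Z (i + 2) with hbdef
  have hinv : ((a * b) ^ 2)⁻¹ = (a * b) ^ 2 := by
    rw [inv_eq_iff_mul_eq_one, ← pow_add]; exact h4
  have hai : a⁻¹ = a := inv_eq_of_mul_eq_one_left ha
  have hbi : b⁻¹ = b := inv_eq_of_mul_eq_one_left hb
  have h1 : a * (a * b) * a⁻¹ = (a * b)⁻¹ := by
    rw [mul_inv_rev, hai, hbi, ← mul_assoc, ha, one_mul]
  have h2 : b * (a * b) * b⁻¹ = (a * b)⁻¹ := by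
    rw [mul_inv_rev, hai, hbi]; simp only [mul_assoc, hb, mul_one]
  have ca : Commute ((a * b) ^ 2) a := by
    have : a * (a * b) ^ 2 * a⁻¹ = (a * b) ^ 2 := by
      rw [← conj_pow, h1, inv_pow, hinv]
    exact (mul_inv_eq_iff_eq_mul.mp this).symm
  have cb : Commute ((a * b) ^ 2) b := by
    have : b * (a * b) ^ 2 * b⁻¹ = (a * b) ^ 2 := by
      rw [← conj_pow, h2, inv_pow, hinv]
    exact (mul_inv_eq_iff_eq_mul.mp this).symm
  refine ⟨ca, cb, ?_, ?_⟩
  · have e1 : Commute a (Z i) := (h.c1' i).symm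
    have e2 : Commute b (Z i) := (h.c2 i).symm
    exact (e1.mul_left e2).pow_left 2
  · have e1 : Commute a (Z (i + 1)) := by
      have := h.c2 (i - 1)
      have e : i - 1 + 2 = i + 1 := by ring
      rwa [e] at this
    have e2 : Commute b (Z (i + 1)) := by
      have := h.c1 (i + 1)
      have e : i + 1 + 1 = i + 2 := by ring
      rw [e] at this
      exact this.symm
    exact (e1.mul_left e2).pow_left 2

theorem commute_C0 (h : TitsRel Z) (i : ZMod 8) : Commute (C Z i) (Z i) := by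
  obtain ⟨-, -, h3, -⟩ := h.core_comm i
  exact h3.mul_left ((Commute.refl _).mul_left (h.c1 i).symm)

theorem commute_C1 (h : TitsRel Z) (i : ZMod 8) : Commute (C Z i) (Z (i + 1)) := by
  obtain ⟨-, -, -, h4⟩ := h.core_comm i
  exact h4.mul_left (Commute.mul_left (h.c1 i) (Commute.refl _))

theorem commute_Cm1 (h : TitsRel Z) (i : ZMod 8) : Commute (C Z i) (Z (i - 1)) := by
  obtain ⟨h1, -, -, -⟩ := h.core_comm i
  refine h1.mul_left (Commute.mul_left (h.c1' i) ?_)
  have := h.c2 (i - 1)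
  have e : i - 1 + 2 = i + 1 := by ring
  rw [e] at this
  exact this.symm

theorem commute_C2 (h : TitsRel Z) (i : ZMod 8) : Commute (C Z i) (Z (i + 2)) := by
  obtain ⟨-, h2, -, -⟩ := h.core_comm i
  refine h2.mul_left (Commute.mul_left (h.c2 i) ?_)
  have := h.c1 (i + 1)
  have e : i + 1 + 1 = i + 2 := by ring
  rwa [e] at this

theorem C_sq (h : TitsRel Z) (i : ZMod 8) : C Z i * C Z i = 1 := by
  obtain ⟨-, -, h3, h4⟩ := h.core_comm i
  have hc : Commute ((Z (i - 1) * Z (i + 2)) ^ 2) (Z i * Z (i + 1)) := h3.mul_right h4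
  have h44 : (Z (i - 1) * Z (i + 2)) ^ 4 = 1 := by
    have := h.o4 (i - 1)
    have e : i - 1 + 3 = i + 2 := by ring
    rwa [e] at this
  have hz : (Z i * Z (i + 1)) ^ 2 = 1 := by
    rw [(show Commute (Z i) (Z (i + 1)) from h.c1 i).mul_pow, pow_two, pow_two, h.sq, h.sq, one_mul]
  have : (C Z i) ^ 2 = 1 := by
    rw [C, hc.mul_pow, ← pow_mul, h44, one_mul, hz]
  rwa [pow_two] at this

theorem C_inv (h : TitsRel Z) (i : ZMod 8) : (C Z i)⁻¹ = C Z i :=
  inv_eq_of_mul_eq_one_left (h.C_sq i)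

end TitsRel

/-- The subgroup `⟨Z_{-2}, …, Z_2, C_{-2}, …, C_1⟩` (of order `5120` in the Tits group). -/
def H0 (Z : ZMod 8 → M) : Subgroup M :=
  Subgroup.closure {Z (-2), Z (-1), Z 0, Z 1, Z 2, C Z (-2), C Z (-1), C Z 0, C Z 1}

/-- The element `Z 0` is centralised by `H0`. -/
theorem TitsRel.H0_le_centralizer {Z : ZMod 8 → M} (h : TitsRel Z) :
    H0 Z ≤ Subgroup.centralizer {Z 0} := by
  rw [H0, Subgroup.closure_le]
  intro x hx
  rw [SetLike.mem_coe, Subgroup.mem_centralizer_singleton_iff]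
  simp only [Set.mem_insert_iff, Set.mem_singleton_iff] at hx
  rcases hx with h' | h' | h' | h' | h' | h' | h' | h' | h' <;> rw [h']
  · have := h.c2 (-2); rw [neg_add_cancel] at this; exact this
  · have := h.c1 (-1); rw [neg_add_cancel] at this; exact this
  · have := h.c1 0; rw [zero_add] at this; exact this.symm
  · have := h.c2 0; rw [zero_add] at this; exact this.symm
  · have := h.commute_C2 (-2); rw [neg_add_cancel] at this; exact this
  · have := h.commute_C1 (-1); rw [neg_add_cancel] at this; exact this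
  · exact h.commute_C0 0
  · have := h.commute_Cm1 1; rw [sub_self] at this; exact this

/-- The statement of part (A): `H0` has index at most `3510` (proved in `TitsIso/Index.lean`). -/
def IndexLe.{u} : Prop := ∀ (M : Type u) [Group M] (Z : ZMod 8 → M), TitsRel Z →
  Subgroup.closure (Set.range Z) = ⊤ → (H0 Z).index ≤ 3510 ∧ (H0 Z).index ≠ 0

end Cfsg.Agent.Omega.TitsIso
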