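import Cfsg.Agent.Omega.TitsIso.TitsSideIdx
import Cfsg.Agent.Omega.TitsIso.Rel

/-!
# The Tits group satisfies the relations; its class of central involutions has at least 703 elements
-/

set_option autoImplicit false

namespace Cfsg.Agent.Omega.TitsIso.Model

open Cfsg.Agent.ChevalleyStructure.Tits.Pack Cfsg.Agent.ChevalleyStructure.Tits.Data
  Cfsg.Agent.ChevalleyStructure.Tits.Sat Cfsg.Agent.ChevalleyStructure.Tits.Final
  Cfsg.Agent.ChevalleyStructure.Tits.Mat Cfsg.Agent.ChevalleyStructure.Tits.Order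
  Cfsg.Agent.ChevalleyStructure.Tits.Main Cfsg.Agent.Omega.TitsIso.TitsSideRel
  Cfsg.Agent.Omega.TitsIso.TitsSide Cfsg.Agent.Omega.TitsIso.TitsSideIdx

open scoped MatrixGroups

/-- the matrix of an element of the derived subgroup -/
noncomputable def mt (x : ↥(commutator ChevalleyStructure.Tits.Order.H0)) : Matrix I52 I52 (ZMod 2) :=
  (((x : ChevalleyStructure.Tits.Order.H0) : GL I52 (ZMod 2)) : Matrix I52 I52 (ZMod 2))

theorem mt_mul (x y : ↥(commutator ChevalleyStructure.Tits.Order.H0)) : mt (x * y) = mt x * mt y := by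
  unfold mt
  rw [Subgroup.coe_mul, Subgroup.coe_mul, Units.val_mul]

theorem mt_injective : Function.Injective mt := by
  intro x y h
  apply Subtype.ext
  apply Subtype.ext
  exact Units.ext h

theorem toMat_zp (i : ZMod 8) : toMat (zp i.val) = mt (ZC i) := by
  rw [zp_ok i, toMat_evalW]
  unfold mt
  have h1 : ((ZC i : ↥(commutator ChevalleyStructure.Tits.Order.H0)) : ChevalleyStructure.Tits.Order.H0) = ((zw i).map yH).prod := rfl
  have hlt : ∀ k ∈ zw i, k < 12 := fun k hk => by have := zw_lt i k hk; omega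
  rw [h1, coe_list _ (zw_lt i), coe_word _ hlt]

theorem exists_val {j : ℕ} (hj : j < 8) : ∃ i : ZMod 8, i.val = j := by
  refine ⟨(j : ZMod 8), ?_⟩
  rw [ZMod.val_natCast]
  exact Nat.mod_eq_of_lt hj

/-- `X` is the packed matrix of a conjugate of the first involution -/
def IsCl (X : ℕ) : Prop := ∃ g : ↥(commutator ChevalleyStructure.Tits.Order.H0), toMat X = mt (g * ZC 0 * g⁻¹)

theorem ZC_sq (i : ZMod 8) : ZC i * ZC i = 1 := rels_ZC.1 i

theorem IsCl.step {X : ℕ} (h : IsCl X) {j : ℕ} (hj : j < 8) : IsCl (cj j X) := by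
  obtain ⟨g, hg⟩ := h
  obtain ⟨i, rfl⟩ := exists_val hj
  refine ⟨ZC i * g, ?_⟩
  have hi : (ZC i)⁻¹ = ZC i := inv_eq_of_mul_eq_one_left (ZC_sq i)
  have h1 : ZC i * g * ZC 0 * (ZC i * g)⁻¹ = ZC i * (g * ZC 0 * g⁻¹) * ZC i := by
    rw [mul_inv_rev, hi]
    simp only [mul_assoc]
  rw [h1, mt_mul, mt_mul, ← hg, ← toMat_zp]
  unfold cj
  rw [toMat_mulP, toMat_mulP]

theorem isCl_zero : IsCl (zp 0) := ⟨1, by
  rw [one_mul, inv_one, mul_one]
  exact toMat_zp 0⟩

theorem lab_eq {X Y : ℕ} (h : toMat X = toMat Y) : lab X = lab Y := by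
  have h52 : (4503599627370496 : ℕ) = 2 ^ 52 := by norm_num
  have hl : ∀ X : ℕ, lab X = X % 2 ^ 52 := fun X => by
    show X % 4503599627370496 = _
    rw [h52]
  rw [hl, hl]
  apply Nat.eq_of_testBit_eq
  intro i
  rw [Nat.testBit_mod_two_pow, Nat.testBit_mod_two_pow]
  by_cases hi : i < 52
  · have key : ∀ r : I52, ix r = i → X.testBit i = Y.testBit i := by
      intro r hr
      have h1 := congrFun (congrFun h r) (Sum.inl 0)
      rw [toMat_apply, toMat_apply, ix_inl, hr] at h1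
      simp only [Fin.val_zero, mul_zero, zero_add] at h1
      revert h1
      cases X.testBit i <;> cases Y.testBit i <;> simp [bz]
    have hb : X.testBit i = Y.testBit i := by
      by_cases h4 : i < 4
      · exact key (Sum.inl ⟨i, h4⟩) rfl
      · refine key (Sum.inr ⟨i - 4, by omega⟩) ?_
        rw [ix_inr]
        show 4 + (i - 4) = i
        omega
    rw [hb]
  · simp [hi]

theorem labels_cl (l : List ℕ) (hl : ∀ j ∈ l, j < 8) : ∀ X, IsCl X → ∀ a ∈ labels X l, ∃ Y, IsCl Y ∧ lab Y = a := by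
  induction l with
  | nil =>
    intro X hX a ha
    have h1 : labels X [] = [lab X] := rfl
    rw [h1, List.mem_singleton] at ha
    exact ⟨X, hX, ha.symm⟩
  | cons j l ih =>
    intro X hX a ha
    have h1 : labels X (j :: l) = lab X :: labels (cj j X) l := rfl
    rw [h1, List.mem_cons] at ha
    rcases ha with ha | ha
    · exact ⟨X, hX, ha.symm⟩
    · exact ih (fun k hk => hl k (List.mem_cons_of_mem j hk)) _ (hX.step (hl j List.mem_cons_self)) a ha

theorem exists_of_mem {a : ℕ} (ha : a ∈ labs) : ∃ g : ↥(commutator ChevalleyStructure.Tits.Order.H0), ∃ X, toMat X = mt (g * ZC 0 * g⁻¹) ∧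
    lab X = a := by
  rw [← labels_ok] at ha
  have hlt : ∀ j ∈ path, j < 8 := by
    have h := path_lt
    rw [List.all_eq_true] at h
    intro j hj
    have := h j hj
    rwa [Nat.blt_eq] at this
  obtain ⟨Y, ⟨g, hg⟩, hY⟩ := labels_cl path hlt (zp 0) isCl_zero a ha
  exact ⟨g, Y, hg, hY⟩

theorem le_index : 703 ≤ (Subgroup.centralizer ({ZC 0} : Set ↥(commutator ChevalleyStructure.Tits.Order.H0))).index := by
  classical
  choose g X hg hX using fun a : {a // a ∈ labs.toFinset} => exists_of_mem (List.mem_toFinset.1 a.2)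
  have hinj : Function.Injective fun a : {a // a ∈ labs.toFinset} =>
      (QuotientGroup.mk (g a) : ↥(commutator ChevalleyStructure.Tits.Order.H0) ⧸ Subgroup.centralizer ({ZC 0} : Set ↥(commutator ChevalleyStructure.Tits.Order.H0))) := by
    intro a b hab
    have h1 := QuotientGroup.eq.1 hab
    rw [Subgroup.mem_centralizer_singleton_iff] at h1
    have h2 : g a * ZC 0 * (g a)⁻¹ = g b * ZC 0 * (g b)⁻¹ := by
      have h3 : (g a)⁻¹ * g b * ZC 0 = ZC 0 * ((g a)⁻¹ * g b) := h1
      rw [mul_inv_eq_iff_eq_mul]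
      calc g a * ZC 0 = g a * (ZC 0 * ((g a)⁻¹ * g b)) * ((g b)⁻¹ * g a) := by group
        _ = g a * ((g a)⁻¹ * g b * ZC 0) * ((g b)⁻¹ * g a) := by rw [h3]
        _ = g b * ZC 0 * (g b)⁻¹ * g a := by group
    have h4 : toMat (X a) = toMat (X b) := by rw [hg a, hg b, h2]
    have h5 := lab_eq h4
    rw [hX a, hX b] at h5
    exact Subtype.ext h5
  have h6 : Nat.card {a // a ∈ labs.toFinset} = 703 := by
    rw [Nat.card_eq_fintype_card, Fintype.card_coe, List.toFinset_card_of_nodup labs_nodup, labs_length]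
  rw [← h6]
  exact Nat.card_le_card_of_injective _ hinj

theorem titsRel_ZC : TitsRel ZC := by
  obtain ⟨h1, h2, h3, h4, h5, h6, h7⟩ := rels_ZC
  exact ⟨h1, h2, h3, h4, h5, h6, h7⟩

theorem exists_of_eq (K : Subgroup (GL I52 (ZMod 2))) (hK : K = ChevalleyStructure.Tits.Order.H0) :
    ∃ Z : ZMod 8 → ↥(commutator K), TitsRel Z ∧ Subgroup.closure (Set.range Z) = ⊤ ∧
      703 ≤ (Subgroup.centralizer ({Z 0} : Set ↥(commutator K))).index := by
  subst hK
  exact ⟨ZC, titsRel_ZC, closure_ZC, le_index⟩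

/-- **The Tits group is a model of the relations.** -/
theorem exists_titsRel : ∃ Z : ZMod 8 → Cfsg.Lie.TitsGroup, TitsRel Z ∧ Subgroup.closure (Set.range Z) = ⊤ ∧
    703 ≤ (Subgroup.centralizer ({Z 0} : Set Cfsg.Lie.TitsGroup)).index :=
  exists_of_eq (Cfsg.Lie.twistedF4 (ZMod 2) 1) T0_eq_H0

end Cfsg.Agent.Omega.TitsIso.Model
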