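import Cfsg.Agent.Omega.TitsIso.GSide
import Cfsg.Agent.Omega.TitsIso.Model
import Cfsg.Agent.Omega.TitsIso.IndexIso
import Cfsg.Agent.OddHalf.Known

/-!
# TITS-ISO: the final configuration of characteristic 2 type is the Tits group

* `isoTits_of` : `FinHyp z p` and characteristic 2 type give `Lie.IsoTits G`, from the coset enumeration
  `IndexLe`;
* `known_of` : then `G` is a known simple group.
-/

set_option autoImplicit false

namespace Cfsg.Agent.Omega.TitsIso

open Cfsg Cfsg.Agent.Classification.TitsFin

universe u

variable {G : Type u} [Group G] [Finite G] {z p : G}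

theorem card_le_tits (h : FinHyp z p) (hG : IsCharacteristicTwoType G) :
    Nat.card G ≤ Nat.card Cfsg.Lie.TitsGroup := by
  have hc := TitsSide.facts.2.2
  have h1 := h.card_eq hG
  exact le_of_eq (h1.trans hc.symm)

theorem finite_tits : Finite Cfsg.Lie.TitsGroup := by
  have hc := TitsSide.facts.2.2
  refine Nat.finite_of_card_ne_zero fun h => ?_
  rw [h] at hc
  exact absurd hc (by norm_num)

/-- **The identification of the Tits group**, from the coset enumeration. -/
theorem isoTits_of (hI : IndexLe.{u}) (h : FinHyp z p) (hG : IsCharacteristicTwoType G) :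
    Cfsg.Lie.IsoTits G := by
  have hs := TitsSide.facts.1
  have hf := finite_tits
  obtain ⟨Zg, hg, hne⟩ := GSide.exists_titsRel h hG
  obtain ⟨Zt, ht, gen, hT⟩ := Model.exists_titsRel
  exact iso_of_rel.{u, 0} (G := G) (T := Cfsg.Lie.TitsGroup) hI hg ht gen hne (card_le_tits h hG) hT

/-- The final configuration of characteristic 2 type is a known simple group. -/
theorem known_of (hI : IndexLe.{u}) (h : FinHyp z p) (hG : IsCharacteristicTwoType G) :
    IsKnownSimple' G :=
  OddHalf.Known.known_of_rough (Or.inr (Or.inr (Or.inl (isoTits_of hI h hG))))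

end Cfsg.Agent.Omega.TitsIso
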