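import Cfsg.Agent.Omega.TitsIso.Main
import Cfsg.Agent.Omega.TitsIso.Index

/-!
# TITS-ISO without the coset enumeration hypothesis

`isoTits_of` and `known_of` of `Omega/TitsIso/Main.lean` with `IndexLe` discharged (`indexLe`, helper55).
-/

set_option autoImplicit false

namespace Cfsg.Agent.Omega.TitsIso.MainIso

open Cfsg Cfsg.Agent.Classification.TitsFin

universe u

variable {G : Type u} [Group G] [Finite G] {z p : G}

/-- **The final configuration of characteristic 2 type is the Tits group.** -/
theorem isoTits (h : FinHyp z p) (hG : IsCharacteristicTwoType G) : Cfsg.Lie.IsoTits G :=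
  isoTits_of indexLe h hG

/-- The final configuration of characteristic 2 type is a known simple group. -/
theorem known (h : FinHyp z p) (hG : IsCharacteristicTwoType G) : IsKnownSimple' G :=
  known_of indexLe h hG

end Cfsg.Agent.Omega.TitsIso.MainIso
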