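import Mathlib
import Cfsg.Agent.Classification.TitsFin.Near
import Cfsg.Agent.Omega.TitsIso.Rel

/-!
# Part (C): the relations of the eight points of an apartment in a group with `FinHyp`
-/

set_option autoImplicit false

namespace Cfsg.Agent.Omega.TitsIso.GSide

open Subgroup Cfsg.Agent.Classification.TitsFin

variable {G : Type*} [Group G] [Finite G] {z p x w y u v : G}

/-- the fifth power of the product of two reflections fixes all the lines on `x` -/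
theorem pow_five_inQ (h : FinHyp z p) (a : Adj z p x w) (b : Adj z p x y) (h1 : y ≠ w)
    (h2 : y ≠ x * w) (hu : u ∈ U z p w) (hu1 : ¬ InQ z p x u) (hv : v ∈ U z p y)
    (hv1 : ¬ InQ z p x v) : InQ z p x ((u * v) ^ 5) := by
  obtain ⟨y', F, h0, h3⟩ := h.exists_frame_two a b h1 h2
  subst h0 h3
  have hux : u * x = x * u := h.U_comm (h.isPt_right a) hu (mem_U_of_adj (h.symm a))
  have hvx : v * x = x * v := h.U_comm (h.isPt_right b) hv (mem_U_of_adj (h.symm b))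
  obtain ⟨j, e, hy⟩ := h.act_invol F hux (h.U_sq (h.isPt_right a) hu) hu1
  obtain ⟨j', e', hy'⟩ := h.act_invol F hvx (h.U_sq (h.isPt_right b) hv) hv1
  have h5 := FinHyp.conj_two F hux hy hy'
  have hc : u * v * x = x * (u * v) := by rw [mul_assoc, hvx, ← mul_assoc, hux, mul_assoc]
  have hc5 : Commute ((u * v) ^ 5) x := (show Commute (u * v) x from hc).pow_left 5
  obtain ⟨k, j'', e'', hk, he, hy''⟩ := F.act _ hc5.eq
  have key : ∀ n : ℕ, ∀ i, ∃ b : ZMod 2, (u * v) ^ n * y' i * ((u * v) ^ n)⁻¹ = tw x b * y' (i + n * (j - j')) := by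
    intro n
    induction n with
    | zero => intro i; exact ⟨0, by simp⟩
    | succ n ih =>
      intro i
      obtain ⟨b, hb⟩ := ih (i + (j - j'))
      refine ⟨e' i + e (-i + j') + b, ?_⟩
      have hcn : (u * v) ^ n * x = x * (u * v) ^ n := ((show Commute (u * v) x from hc).pow_left n).eq
      have e1 : -(-i + j') + j = i + (j - j') := by ring
      calc (u * v) ^ (n + 1) * y' i * ((u * v) ^ (n + 1))⁻¹
          = (u * v) ^ n * ((u * v) * y' i * (u * v)⁻¹) * ((u * v) ^ n)⁻¹ := by rw [pow_succ]; group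
        _ = (u * v) ^ n * (tw x (e' i + e (-i + j')) * y' (i + (j - j'))) * ((u * v) ^ n)⁻¹ := by rw [h5, e1]
        _ = ((u * v) ^ n * tw x (e' i + e (-i + j')) * ((u * v) ^ n)⁻¹) *
              ((u * v) ^ n * y' (i + (j - j')) * ((u * v) ^ n)⁻¹) := by group
        _ = tw x (e' i + e (-i + j') + b) * y' (i + (j - j') + n * (j - j')) := by
              rw [FinHyp.conj_tw hcn, hb, ← mul_assoc, ← tw_add F.xx]
        _ = _ := by
              congr 2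
              push_cast
              ring
  refine F.inQ_iff.mpr ⟨hc5.eq, e'', he, fun i => ?_⟩
  obtain ⟨b, hb⟩ := key 5 i
  have h6 := hy'' i
  rw [hb] at h6
  have h7 : i + ((5 : ℕ) : ZMod 5) * (j - j') = i := by
    have : ((5 : ℕ) : ZMod 5) = 0 := by decide
    rw [this, zero_mul, add_zero]
  rw [h7] at h6
  rw [hy'' i, ← (F.tw_unique h6).1]

/-- `(u y) ^ 2 * (w x)` is in `Q y`, where `u` is a point on `w` -/
theorem c_inQ (h : FinHyp z p) (a : Adj z p x w) (b : Adj z p x y) (h1 : y ≠ w)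
    (h2 : y ≠ x * w) (hu : u ∈ U z p w) (hu1 : ¬ InQ z p x u) :
    InQ z p y ((u * y) ^ 2 * (w * x)) := by
  obtain ⟨y', F, h0, h3⟩ := h.exists_frame_two a b h1 h2
  subst h0 h3
  have hui : u⁻¹ = u := inv_eq_of_mul_eq_one_left (h.U_sq (h.isPt_right a) hu)
  obtain ⟨e, he⟩ := h.refl_of F a (Or.inl rfl) hu hu1
  have e1 : (u * y' 1) ^ 2 = (u * y' 1 * u⁻¹) * y' 1 := by
    rw [hui, pow_two]; group
  rw [e1, he.2.2.2, F.tw_y]
  have e2 : y' 1 = el x y' 0 (Pi.single 1 1) := (el_single _ _ _).symm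
  have e3 : y' 0 * x = el x y' 1 (Pi.single 0 1) := by
    rw [← F.xy, ← F.tw_y, tw_one]
  nth_rewrite 2 [e2]
  rw [F.el_mul, e3, F.el_mul]
  have := h.inQ_v F rfl (e 1 + 0 + 1) (Pi.single (-1) 1 + Pi.single 1 1 + Pi.single 0 1)
  rw [this]
  decide

/-- the product of two points on different lines on `x` is not a point -/
theorem not_isPt_mul (h : FinHyp z p) (a : Adj z p x w) (b : Adj z p x y) (h1 : y ≠ w)
    (h2 : y ≠ x * w) : ¬ IsPt z (w * y) := by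
  intro hP
  obtain ⟨y', F, h0, h3⟩ := h.exists_frame_two a b h1 h2
  subst h0 h3
  have e0 : y' 0 * y' 1 = el x y' 0 (Pi.single 0 1 + Pi.single 1 1) := by
    have := F.el_mul 0 0 (Pi.single 0 1) (Pi.single 1 1)
    rwa [el_single, el_single, add_zero] at this
  have hm : y' 0 * y' 1 ∈ U z p x := mul_mem (mem_U_of_adj a) (mem_U_of_adj b)
  rcases h.U_cases (h.isPt_left a) hm with h4 | h4 | h4 | ⟨w', h4⟩
  · have h5 : el x y' 0 (Pi.single 0 1 + Pi.single 1 1) = el x y' 0 0 := by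
      rw [← e0, h4, el_zero]
    have := (F.el_inj h5).2
    revert this
    decide
  · have h5 : el x y' 0 (Pi.single 0 1 + Pi.single 1 1) = el x y' 1 0 := by
      rw [← e0, h4, el_x]
    have := (F.el_inj h5).2
    revert this
    decide
  · obtain ⟨c, i, h5⟩ := F.adj_iff.mp h4
    rw [e0, F.tw_y] at h5
    have := (F.el_inj h5).2
    revert this
    have : ∀ i : ZMod 5, ¬ ((Pi.single 0 1 + Pi.single 1 1 : ZMod 5 → ZMod 2) = Pi.single i 1 ∨
      (Pi.single 0 1 + Pi.single 1 1 : ZMod 5 → ZMod 2) = Pi.single i 1 + 1) := by decide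
    exact this i
  · exact h.TL_not_isPt h4 hP

/-- `Q x` has exponent 4 -/
theorem pow_four_inQ (h : FinHyp z p) (hx : IsPt z x) {g : G} (hg : InQ z p x g) : g ^ 4 = 1 := by
  obtain ⟨y', F⟩ := h.exists_frame hx
  obtain ⟨hgx, e, he, hy⟩ := F.inQ_iff.mp hg
  have h1 : g * g ∈ U z p x := by
    refine F.cent _ (by rw [mul_assoc, hgx, ← mul_assoc, hgx, mul_assoc]) fun i => ?_
    have h2 : g * g * y' i * (g * g)⁻¹ = y' i := by
      calc g * g * y' i * (g * g)⁻¹ = g * (g * y' i * g⁻¹) * g⁻¹ := by group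
        _ = g * (tw x (e i) * y' i) * g⁻¹ := by rw [hy]
        _ = (g * tw x (e i) * g⁻¹) * (g * y' i * g⁻¹) := by group
        _ = y' i := by rw [FinHyp.conj_tw hgx, hy, ← mul_assoc, ← tw_add F.xx,
                        show ∀ a : ZMod 2, a + a = 0 by decide, tw_zero, one_mul]
    exact mul_inv_eq_iff_eq_mul.mp h2
  have h3 := h.U_sq hx h1
  calc g ^ 4 = g * g * (g * g) := by simp only [pow_succ, pow_zero, one_mul, mul_assoc]
    _ = 1 := h3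

omit [Finite G] in
theorem conj_ten {a b : G} (ha : a * a = 1) (hb : b * b = 1) :
    ∃ g : G, b * (a * b) ^ 10 = g * b * g⁻¹ := by
  have ia : a⁻¹ = a := inv_eq_of_mul_eq_one_left ha
  have ib : b⁻¹ = b := inv_eq_of_mul_eq_one_left hb
  refine ⟨(b * a) ^ 5, ?_⟩
  simp only [pow_succ, pow_zero, one_mul, mul_inv_rev, ia, ib, mul_assoc]

omit [Finite G] in
theorem conj_five {a b : G} (ha : a * a = 1) (hb : b * b = 1) :
    ∃ g : G, b * (a * b) ^ 5 = g * a * g⁻¹ := by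
  have ia : a⁻¹ = a := inv_eq_of_mul_eq_one_left ha
  have ib : b⁻¹ = b := inv_eq_of_mul_eq_one_left hb
  refine ⟨b * (a * b) ^ 2, ?_⟩
  simp only [pow_succ, pow_zero, one_mul, mul_inv_rev, ia, ib, mul_assoc]

omit [Finite G] in
/-- the involution of a dihedral group commutes with the generators -/
theorem comm_pow {a b : G} (ha : a * a = 1) (hb : b * b = 1) {m : ℕ}
    (ht : (a * b) ^ m * (a * b) ^ m = 1) :
    (a * b) ^ m * a = a * (a * b) ^ m ∧ (a * b) ^ m * b = b * (a * b) ^ m := by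
  have ia : a⁻¹ = a := inv_eq_of_mul_eq_one_left ha
  have ib : b⁻¹ = b := inv_eq_of_mul_eq_one_left hb
  have it : ((a * b) ^ m)⁻¹ = (a * b) ^ m := inv_eq_of_mul_eq_one_left ht
  have h1 : a * (a * b) ^ m * a⁻¹ = (a * b) ^ m := by
    rw [← conj_pow]
    have : a * (a * b) * a⁻¹ = (a * b)⁻¹ := by
      rw [mul_inv_rev, ia, ib, ← mul_assoc, ha, one_mul]
    rw [this, inv_pow, it]
  have h2 : b * (a * b) ^ m * b⁻¹ = (a * b) ^ m := by
    rw [← conj_pow]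
    have : b * (a * b) * b⁻¹ = (a * b)⁻¹ := by
      rw [mul_inv_rev, ia, ib]; simp only [mul_assoc, hb, mul_one]
    rw [this, inv_pow, it]
  exact ⟨(mul_inv_eq_iff_eq_mul.mp h1).symm, (mul_inv_eq_iff_eq_mul.mp h2).symm⟩

section path

open Octagon

variable {x0 x1 x2 x3 x4 : Pt z} {l1 l2 l3 l4 : Ln z p}

theorem adjs (h : FinHyp z p) (a2 : Fl (Inc z p) x1 l2 x2) (hl2 : l2 ≠ l3)
    (a3 : Fl (Inc z p) x2 l3 x3) : Adj z p x2.1 x1.1 ∧ Adj z p x2.1 x3.1 ∧ x3.1 ≠ x1.1 ∧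
      x3.1 ≠ x2.1 * x1.1 := by
  have n := h.ne_of_fl (FinHyp.fl_symm a2) a3 hl2
  exact ⟨(h.adj_of_fl (FinHyp.fl_symm a2)).1, (h.adj_of_fl a3).1, n.1, n.2⟩

theorem not_comm3 (h : FinHyp z p) (a1 : Fl (Inc z p) x0 l1 x1) (hl : l1 ≠ l2)
    (a2 : Fl (Inc z p) x1 l2 x2) (hl2 : l2 ≠ l3) (a3 : Fl (Inc z p) x2 l3 x3) :
    x0.1 * x3.1 ≠ x3.1 * x0.1 := by
  intro hc
  have h1 := h.rel3 a1 hl a2 hl2 a3
  unfold rel at h1
  split_ifs at h1 <;> omega

/-- the involution in the centre of `⟨x0, x4⟩` is `x2` -/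
theorem eq_mid (h : FinHyp z p) (hG : IsCharacteristicTwoType G)
    (a1 : Fl (Inc z p) x0 l1 x1) (hl : l1 ≠ l2) (a2 : Fl (Inc z p) x1 l2 x2)
    (hl2 : l2 ≠ l3) (a3 : Fl (Inc z p) x2 l3 x3) (hl3 : l3 ≠ l4) (a4 : Fl (Inc z p) x3 l4 x4)
    {t : G} (t1 : t ≠ 1) (t2 : t * t = 1) (c0 : t * x0.1 = x0.1 * t) (c4 : t * x4.1 = x4.1 * t)
    (hq : InQ z p x2.1 t) : t = x2.1 := by
  have hO := h.oct hG
  have hself : ∀ y : Pt z, Octagon.Col (Inc z p) y y := by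
    intro y
    obtain ⟨g, hg⟩ := y.2
    exact ⟨⟨_, g * z * g⁻¹, g * p * g⁻¹, ⟨g, rfl, rfl⟩, rfl⟩, Or.inl hg.symm, Or.inl hg.symm⟩
  have step : ∀ x : Pt z, t * x.1 = x.1 * t → ∃ y : Pt z, Octagon.Col (Inc z p) x y ∧ t ∈ U z p y.1 := by
    intro x tx
    rcases h.invol x.2 tx t2 with h1 | ⟨y, hy, h1⟩
    · exact ⟨x, hself x, h1⟩
    · exact ⟨⟨y, h.near_right hy⟩, FinHyp.col_of_adj hy x.2 _, h1⟩
  obtain ⟨y, hy, hyt⟩ := step x0 c0
  obtain ⟨y', hy', hyt'⟩ := step x4 c4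
  have hsym : ∀ {a b : Pt z}, Octagon.Col (Inc z p) a b → Octagon.Col (Inc z p) b a := by
    rintro a b ⟨l, h1, h2⟩
    exact ⟨l, h2, h1⟩
  have hP : IsPt z t := by
    rcases h.U_cases y.2 hyt with e | e | e | ⟨w', e⟩
    · exact absurd e t1
    · rw [e]; exact y.2
    · exact h.near_right e
    · exfalso
      have h1 := h.mem_line_of_mem_U hG y'.2 hyt' e
      have h2 : Octagon.Col (Inc z p) y y' := ⟨⟨_, y.1, w', e.1, rfl⟩, Or.inl rfl, h1⟩
      have h0 : Reach (Inc z p) x0 0 x0 := Or.inl rfl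
      have h3 := ((h0.step hy).step h2).step (hsym hy')
      have h4 := h.rel4 a1 hl a2 hl2 a3 hl3 a4
      rcases h3 with h3 | ⟨n, hn, w, m, ha, hm, hne⟩
      · rw [h3, hO.rel0] at h4
        omega
      · have := hO.rel_next ha (by omega) hm hne
        omega
  rcases h.U_cases x2.2 (h.isPt_inQ x2.2 hP hq) with e | e | e | ⟨w', e⟩
  · exact absurd e t1
  · exact e
  · exfalso
    have hm : Fl (Inc z p) x2 ⟨_, x2.1, t, e, rfl⟩ ⟨t, hP⟩ :=
      ⟨Or.inl rfl, Or.inr (Or.inl rfl), fun e1 => h.ne e (congrArg Subtype.val e1).symm⟩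
    have k1 : l2 = ⟨_, x2.1, t, e, rfl⟩ := by
      by_contra hne
      exact not_comm3 h a1 hl a2 hne hm c0.symm
    have k2 : l3 = ⟨_, x2.1, t, e, rfl⟩ := by
      by_contra hne
      exact not_comm3 h (FinHyp.fl_symm a4) hl3.symm (FinHyp.fl_symm a3) hne hm c4.symm
    exact hl2 (k1.trans k2.symm)
  · exact absurd hP (h.TL_not_isPt e)

/-- opposite points: the product has order 5 -/
theorem o5 (h : FinHyp z p) (hG : IsCharacteristicTwoType G)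
    (a1 : Fl (Inc z p) x0 l1 x1) (hl : l1 ≠ l2) (a2 : Fl (Inc z p) x1 l2 x2)
    (hl2 : l2 ≠ l3) (a3 : Fl (Inc z p) x2 l3 x3) (hl3 : l3 ≠ l4) (a4 : Fl (Inc z p) x3 l4 x4) :
    (x0.1 * x4.1) ^ 5 = 1 := by
  have s0 := h.sq x0.2
  have s4 := h.sq x4.2
  obtain ⟨k1, k2, k3, k4⟩ := adjs h a2 hl2 a3
  have n1 : ¬ InQ z p x2.1 x0.1 := h.not_inQ_of_fl (FinHyp.fl_symm a2) hl.symm (FinHyp.fl_symm a1)
  have n2 : ¬ InQ z p x2.1 x4.1 := h.not_inQ_of_fl a3 hl3 a4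
  have m1 : x0.1 ∈ U z p x1.1 := mem_U_of_adj (h.adj_of_fl (FinHyp.fl_symm a1)).1
  have m2 : x4.1 ∈ U z p x3.1 := mem_U_of_adj (h.adj_of_fl a4).1
  have hq := pow_five_inQ h k1 k2 k3 k4 m1 n1 m2 n2
  have hq4 := pow_four_inQ h x2.2 hq
  obtain ⟨j1, j2, j3, j4⟩ := adjs h a3 hl3 a4
  have np : ¬ IsPt z (x4.1 * x2.1) := by
    have := not_isPt_mul h j1 j2 j3 j4
    rwa [h.U_comm (h.isPt_left j1) (mem_U_of_adj j1) (mem_U_of_adj j2)] at this
  by_contra hne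
  by_cases h2 : (x0.1 * x4.1) ^ 5 * (x0.1 * x4.1) ^ 5 = 1
  · obtain ⟨c0, c4⟩ := comm_pow s0 s4 h2
    have e := eq_mid h hG a1 hl a2 hl2 a3 hl3 a4 hne h2 c0 c4 hq
    obtain ⟨g, hg⟩ := conj_five s0 s4
    rw [e] at hg
    exact np (hg ▸ x0.2.conj g)
  · have e10 : (x0.1 * x4.1) ^ 10 = (x0.1 * x4.1) ^ 5 * (x0.1 * x4.1) ^ 5 := by rw [← pow_add]
    have h3 : (x0.1 * x4.1) ^ 10 * (x0.1 * x4.1) ^ 10 = 1 := by
      rw [← pow_add, ← hq4, ← pow_mul]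
    obtain ⟨c0, c4⟩ := comm_pow s0 s4 h3
    have hq2 : InQ z p x2.1 ((x0.1 * x4.1) ^ 10) := by
      rw [e10]
      exact h.inQ_mul' x2.2 hq hq
    have e := eq_mid h hG a1 hl a2 hl2 a3 hl3 a4 (by rw [e10]; exact h2) h3 c0 c4 hq2
    obtain ⟨g, hg⟩ := conj_ten s0 s4
    rw [e] at hg
    exact np (hg ▸ x4.2.conj g)

/-- the element `(x0 x3) ^ 2` -/
theorem tl (h : FinHyp z p) (a1 : Fl (Inc z p) x0 l1 x1) (hl : l1 ≠ l2)
    (a2 : Fl (Inc z p) x1 l2 x2) (hl2 : l2 ≠ l3) (a3 : Fl (Inc z p) x2 l3 x3) :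
    TL z p ((x0.1 * x3.1) ^ 2) x1.1 x2.1 := by
  have h1 := h.adj_of_fl a1
  have h2 := h.adj_of_fl a2
  have h3 := h.adj_of_fl a3
  have n1 : ¬ InQ z p x2.1 x0.1 := h.not_inQ_of_fl (FinHyp.fl_symm a2) hl.symm (FinHyp.fl_symm a1)
  have n2 : ¬ InQ z p x1.1 x3.1 := h.not_inQ_of_fl a2 hl2 a3
  have m1 : x0.1 ∈ U z p x1.1 := mem_U_of_adj (h.adj_of_fl (FinHyp.fl_symm a1)).1
  have m2 : x3.1 ∈ U z p x2.1 := mem_U_of_adj h3.1
  have T := h.comm_TL h2.1 m2 n2 m1 n1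
  have i0 : (x0.1)⁻¹ = x0.1 := inv_eq_of_mul_eq_one_left (h.sq x0.2)
  have i3 : (x3.1)⁻¹ = x3.1 := inv_eq_of_mul_eq_one_left (h.sq x3.2)
  have e := inv_eq_of_mul_eq_one_left (h.U_sq x1.2 T.2.1)
  have e2 : (x0.1 * x3.1) ^ 2 = x3.1 * x0.1 * x3.1⁻¹ * x0.1⁻¹ := by
    rw [← e]
    simp only [mul_inv_rev, i0, i3, pow_two, mul_assoc]
  rw [e2]
  exact T

theorem pow_two_symm (h : FinHyp z p) (a1 : Fl (Inc z p) x0 l1 x1) (hl : l1 ≠ l2)
    (a2 : Fl (Inc z p) x1 l2 x2) (hl2 : l2 ≠ l3) (a3 : Fl (Inc z p) x2 l3 x3) :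
    (x3.1 * x0.1) ^ 2 = (x0.1 * x3.1) ^ 2 := by
  have T := tl h a1 hl a2 hl2 a3
  have i0 : (x0.1)⁻¹ = x0.1 := inv_eq_of_mul_eq_one_left (h.sq x0.2)
  have i3 : (x3.1)⁻¹ = x3.1 := inv_eq_of_mul_eq_one_left (h.sq x3.2)
  have e := inv_eq_of_mul_eq_one_left (h.U_sq x1.2 T.2.1)
  rw [← e, ← inv_pow, mul_inv_rev, i0, i3]

/-- the action on the next line -/
theorem act_right (h : FinHyp z p) (a1 : Fl (Inc z p) x0 l1 x1) (hl : l1 ≠ l2)
    (a2 : Fl (Inc z p) x1 l2 x2) (hl2 : l2 ≠ l3) (a3 : Fl (Inc z p) x2 l3 x3)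
    (hl3 : l3 ≠ l4) (a4 : Fl (Inc z p) x3 l4 x4) :
    ((x0.1 * x3.1) ^ 2 * (x1.1 * x2.1)) * x4.1 * ((x0.1 * x3.1) ^ 2 * (x1.1 * x2.1))⁻¹ =
      x3.1 * x4.1 := by
  have T := tl h a1 hl a2 hl2 a3
  obtain ⟨k1, k2, k3, k4⟩ := adjs h a2 hl2 a3
  have n1 : ¬ InQ z p x2.1 x0.1 := h.not_inQ_of_fl (FinHyp.fl_symm a2) hl.symm (FinHyp.fl_symm a1)
  have m1 : x0.1 ∈ U z p x1.1 := mem_U_of_adj (h.adj_of_fl (FinHyp.fl_symm a1)).1
  have hq := c_inQ h k1 k2 k3 k4 m1 n1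
  have hc1 : (x0.1 * x3.1) ^ 2 * (x1.1 * x2.1) ∈ U z p x1.1 :=
    mul_mem T.2.1 (mul_mem self_mem_U (mem_U_of_adj (h.symm k1)))
  have hc2 : (x0.1 * x3.1) ^ 2 * (x1.1 * x2.1) ∈ U z p x2.1 :=
    mul_mem T.2.2.1 (mul_mem (mem_U_of_adj k1) self_mem_U)
  have s1 := h.sq x1.2
  have s2 := h.sq x2.2
  have c12 := h.near_comm k1
  have hn : (x0.1 * x3.1) ^ 2 * (x1.1 * x2.1) ∉ U z p x3.1 := by
    intro hc3
    rcases h.inter_two k1 k2 k3 k4 hc2 hc1 hc3 with e | e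
    · apply T.2.2.2.2.2.2
      have := eq_inv_of_mul_eq_one_left e
      rw [this, mul_inv_rev, inv_eq_of_mul_eq_one_left s1, inv_eq_of_mul_eq_one_left s2, c12]
    · apply T.2.2.2.2.1
      have e2 : (x0.1 * x3.1) ^ 2 * (x1.1 * x2.1) * x2.1 = x2.1 * x2.1 := by rw [e]
      rw [s2, mul_assoc, mul_assoc, s2, mul_one] at e2
      rw [eq_inv_of_mul_eq_one_left e2, inv_eq_of_mul_eq_one_left s1]
  have n3 : ¬ InQ z p x2.1 x4.1 := h.not_inQ_of_fl a3 hl3 a4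
  exact h.F_act (h.symm k2) hc2 hq hn (mem_U_of_adj (h.adj_of_fl a4).1) n3

end path

/-- **Part (C).** -/
theorem exists_titsRel (h : FinHyp z p) (hG : IsCharacteristicTwoType G) :
    ∃ Z : ZMod 8 → G, TitsRel Z ∧ Z 0 ≠ Z 4 := by
  have hO := h.oct hG
  have : Nonempty (Pt z) := ⟨⟨z, 1, by group⟩⟩
  obtain ⟨X, l, hX⟩ := hO.exists_apartment
  have f : ∀ i j : ZMod 8, i + 1 = j → Octagon.Fl (Inc z p) (X i) (l i) (X j) := by
    rintro i j rfl
    exact (hX i).1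
  have g : ∀ i j : ZMod 8, i + 1 = j → l i ≠ l j := by
    rintro i j rfl
    exact (hX i).2
  refine ⟨fun i => (X i).1, ⟨fun i => h.sq (X i).2, fun i => ?_, fun i => ?_, fun i => ?_, fun i => ?_,
    fun i => ?_, fun i => ?_⟩, ?_⟩
  · exact h.near_comm (h.adj_of_fl (f i (i + 1) rfl)).1
  · obtain ⟨k1, k2, k3, k4⟩ := adjs h (f i (i + 1) rfl) (g i (i + 1) rfl) (f (i + 1) (i + 2) (by ring))
    exact h.U_comm (h.isPt_left k1) (mem_U_of_adj k1) (mem_U_of_adj k2)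
  · have T := tl h (f i (i + 1) rfl) (g i (i + 1) rfl) (f (i + 1) (i + 2) (by ring))
      (g (i + 1) (i + 2) (by ring)) (f (i + 2) (i + 3) (by ring))
    have := h.U_sq (X (i + 1)).2 T.2.1
    rw [← pow_add] at this
    exact this
  · exact o5 h hG (f i (i + 1) rfl) (g i (i + 1) rfl) (f (i + 1) (i + 2) (by ring))
      (g (i + 1) (i + 2) (by ring)) (f (i + 2) (i + 3) (by ring)) (g (i + 2) (i + 3) (by ring))
      (f (i + 3) (i + 4) (by ring))
  · exact act_right h (f (i - 1) i (by ring)) (g (i - 1) i (by ring)) (f i (i + 1) rfl)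
      (g i (i + 1) rfl) (f (i + 1) (i + 2) (by ring)) (g (i + 1) (i + 2) (by ring))
      (f (i + 2) (i + 3) (by ring))
  · have key := act_right h (FinHyp.fl_symm (f (i + 1) (i + 2) (by ring))) (g i (i + 1) rfl).symm
      (FinHyp.fl_symm (f i (i + 1) rfl)) (g (i - 1) i (by ring)).symm
      (FinHyp.fl_symm (f (i - 1) i (by ring))) (g (i - 2) (i - 1) (by ring)).symm
      (FinHyp.fl_symm (f (i - 2) (i - 1) (by ring)))
    have e := pow_two_symm h (f (i - 1) i (by ring)) (g (i - 1) i (by ring)) (f i (i + 1) rfl)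
      (g i (i + 1) rfl) (f (i + 1) (i + 2) (by ring))
    have e2 := h.near_comm (h.adj_of_fl (f i (i + 1) rfl)).1
    rw [e, ← e2] at key
    exact key
  · intro e
    have h4 := h.rel4 (f 0 1 (by ring)) (g 0 1 (by ring)) (f 1 2 (by ring)) (g 1 2 (by ring))
      (f 2 3 (by ring)) (g 2 3 (by ring)) (f 3 4 (by ring))
    have e' : X 0 = X 4 := Subtype.ext e
    rw [e', hO.rel0] at h4
    omega

end Cfsg.Agent.Omega.TitsIso.GSide
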