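import Mathlib

/-!
# TITS-ISO: the Goursat argument

Two finite groups `G`, `T` of the same order, `T` simple and generated by `b i`; if the subgroup of `G × T`
generated by the pairs `(a i, b i)` is not larger than `T`, and some `a i ≠ 1`, then `G ≃* T`.
-/

set_option autoImplicit false

namespace Cfsg.Agent.Omega.TitsIso.Goursat

open Subgroup

variable {G T : Type*} [Group G] [Group T] {ι : Type*}

/-- the subgroup generated by the pairs -/
def pairs (a : ι → G) (b : ι → T) : Subgroup (G × T) := closure (Set.range fun i => (a i, b i))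

theorem mem_pairs (a : ι → G) (b : ι → T) (i : ι) : (a i, b i) ∈ pairs a b := subset_closure ⟨i, rfl⟩

/-- the generators, as elements of the subgroup -/
def gens (a : ι → G) (b : ι → T) (i : ι) : ↥(pairs a b) := ⟨(a i, b i), mem_pairs a b i⟩

theorem closure_gens (a : ι → G) (b : ι → T) : closure (Set.range (gens a b)) = ⊤ := by
  rw [eq_top_iff]
  rintro ⟨x, hx⟩ -
  have h1 : (closure (Set.range (gens a b))).map (pairs a b).subtype = pairs a b := by
    rw [MonoidHom.map_closure]
    unfold pairs
    congr 1
    ext y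
    constructor
    · rintro ⟨_, ⟨i, rfl⟩, rfl⟩
      exact ⟨i, rfl⟩
    · rintro ⟨i, rfl⟩
      exact ⟨gens a b i, ⟨i, rfl⟩, rfl⟩
  have h2 : x ∈ (closure (Set.range (gens a b))).map (pairs a b).subtype := by rw [h1]; exact hx
  obtain ⟨y, hy, rfl⟩ := h2
  exact hy

/-- **The Goursat argument.** -/
theorem iso_of_card_le [Finite G] [Finite T] [IsSimpleGroup T] (a : ι → G) (b : ι → T)
    (hgen : closure (Set.range b) = ⊤) (hcard : Nat.card G = Nat.card T) (hne : ∃ i, a i ≠ 1)
    (hM : Nat.card ↥(pairs a b) ≤ Nat.card T) : Nonempty (G ≃* T) := by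
  classical
  let p1 : ↥(pairs a b) →* G := (MonoidHom.fst G T).comp (pairs a b).subtype
  let p2 : ↥(pairs a b) →* T := (MonoidHom.snd G T).comp (pairs a b).subtype
  have h2s : Function.Surjective p2 := by
    rw [← MonoidHom.range_eq_top, eq_top_iff, ← hgen, closure_le]
    rintro _ ⟨i, rfl⟩
    exact ⟨gens a b i, rfl⟩
  have h2b : Function.Bijective p2 :=
    h2s.bijective_of_nat_card_le hM
  let e2 : ↥(pairs a b) ≃* T := MulEquiv.ofBijective p2 h2b
  let φ : T →* G := p1.comp e2.symm.toMonoidHom
  have hφ : ∀ i, φ (b i) = a i := by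
    intro i
    have h3 : e2.symm (b i) = gens a b i := by
      rw [MulEquiv.symm_apply_eq]
      rfl
    change p1 (e2.symm (b i)) = a i
    rw [h3]
    rfl
  have hker : φ.ker = ⊥ := by
    rcases (inferInstance : φ.ker.Normal).eq_bot_or_eq_top with h | h
    · exact h
    · exfalso
      obtain ⟨i, hi⟩ := hne
      apply hi
      rw [← hφ i]
      have : b i ∈ φ.ker := by rw [h]; exact mem_top _
      exact this
  have hinj : Function.Injective φ := (MonoidHom.ker_eq_bot_iff φ).mp hker
  have hbij : Function.Bijective φ := by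
    rw [Nat.bijective_iff_injective_and_card]
    exact ⟨hinj, hcard.symm⟩
  exact ⟨(MulEquiv.ofBijective φ hbij).symm⟩

end Cfsg.Agent.Omega.TitsIso.Goursat
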