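import Mathlib

/-!
A small certified coset enumeration machine for sixteen involutory generators, made for kernel
evaluation.  For each generator (an element of `Lt`, four booleans) the state contains one natural
number whose base `4096` digits are the entries (`m + 1`, or `0` for unknown) of the table.
-/

set_option autoImplicit false

namespace Cfsg.Agent.Omega.TitsIso.Machine

universe v

/-- quadruples -/
structure P (α : Type) : Type where
  /-- first -/
  a : α
  /-- second -/
  b : α
  /-- third -/
  c : α
  /-- fourth -/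
  d : α

/-- four values -/
inductive Q : Type
  | a : Q
  | b : Q
  | c : Q
  | d : Q
  deriving DecidableEq

/-- states -/
abbrev St : Type := P (P ℕ)

/-- letters -/
structure Lt : Type where
  /-- high -/
  x : Q
  /-- low -/
  y : Q
  deriving DecidableEq

/-- component -/
noncomputable def P.get {α : Type} (p : P α) (q : Q) : α := Q.rec p.a p.b p.c p.d q

/-- change one component -/
noncomputable def P.mod {α : Type} (p : P α) (q : Q) (f : α → α) : P α :=
  Q.rec ⟨f p.a, p.b, p.c, p.d⟩ ⟨p.a, f p.b, p.c, p.d⟩ ⟨p.a, p.b, f p.c, p.d⟩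
    ⟨p.a, p.b, p.c, f p.d⟩ q

theorem P.get_mod {α : Type} (p : P α) (q q' : Q) (f : α → α) :
    (p.mod q f).get q' = if q' = q then f (p.get q') else p.get q' := by
  cases q <;> cases q' <;> rfl

/-- force the evaluation of a natural number -/
noncomputable def force {β : Type v} (n : ℕ) (k : ℕ → β) : β :=
  Nat.rec (k (nat_lit 0)) (fun m _ => k m) (Nat.add n (nat_lit 1))

theorem force_eq {β : Type v} (n : ℕ) (k : ℕ → β) : force n k = k n := rfl

/-- the table of a letter -/
noncomputable def tab (s : St) (g : Lt) : ℕ :=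
  Lt.rec (fun x y => P.rec (fun a b c d => P.rec (fun a b c d => Q.rec a b c d y)
    (Q.rec a b c d x : P ℕ)) s) g

theorem tab_def (s : St) (g : Lt) : tab s g = (s.get g.x).get g.y := rfl

/-- change the table of a letter -/
noncomputable def modT (s : St) (g : Lt) (f : ℕ → ℕ) : St :=
  s.mod g.x fun s => s.mod g.y f

/-- change the table of a letter, continuation form -/
noncomputable def modPK {β : Type v} (s : P ℕ) (y : Q) (f : ℕ → ℕ) (k : P ℕ → β) : β :=
  P.rec (fun a b c d => Q.rec (force (f a) fun v => k ⟨v, b, c, d⟩)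
    (force (f b) fun v => k ⟨a, v, c, d⟩) (force (f c) fun v => k ⟨a, b, v, d⟩)
    (force (f d) fun v => k ⟨a, b, c, v⟩) y) s

/-- change the table of a letter, continuation form -/
noncomputable def modTK {β : Type v} (s : St) (g : Lt) (f : ℕ → ℕ) (k : St → β) : β :=
  Lt.rec (fun x y => P.rec (fun a b c d => Q.rec (modPK a y f fun v => k ⟨v, b, c, d⟩)
    (modPK b y f fun v => k ⟨a, v, c, d⟩) (modPK c y f fun v => k ⟨a, b, v, d⟩)
    (modPK d y f fun v => k ⟨a, b, c, v⟩) x) s) g

theorem modPK_eq {β : Type v} (s : P ℕ) (y : Q) (f : ℕ → ℕ) (k : P ℕ → β) :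
    modPK s y f k = k (s.mod y f) := by
  cases y <;> rfl

theorem modTK_eq {β : Type v} (s : St) (g : Lt) (f : ℕ → ℕ) (k : St → β) :
    modTK s g f k = k (modT s g f) := by
  obtain ⟨x, y⟩ := g
  obtain ⟨a, b, c, d⟩ := s
  cases x
  · exact modPK_eq a y f fun v => k ⟨v, b, c, d⟩
  · exact modPK_eq b y f fun v => k ⟨a, v, c, d⟩
  · exact modPK_eq c y f fun v => k ⟨a, b, v, d⟩
  · exact modPK_eq d y f fun v => k ⟨a, b, c, v⟩

theorem tab_modT (s : St) (g g' : Lt) (f : ℕ → ℕ) :
    tab (modT s g f) g' = if g' = g then f (tab s g') else tab s g' := by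
  obtain ⟨x, y⟩ := g
  obtain ⟨x', y'⟩ := g'
  simp only [tab_def, modT, P.get_mod, Lt.mk.injEq]
  by_cases hx : x' = x
  · by_cases hy : y' = y
    · simp [hx, hy, P.get_mod]
    · simp [hx, hy, P.get_mod]
  · simp [hx]

/-- entry of the table: `0` means unknown, `m + 1` means `m`.  The last `64` bits are a check sum
which makes the hash values of the tables different. -/
noncomputable def look (s : St) (g : Lt) (n : ℕ) : ℕ :=
  Nat.mod (Nat.shiftRight (tab s g) (Nat.add (Nat.mul (nat_lit 12) n) (nat_lit 64))) (nat_lit 4096)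

theorem look_def (s : St) (g : Lt) (n : ℕ) : look s g n = (tab s g >>> (12 * n + 64)) % 4096 := rfl

/-- enter the value `b + 1` -/
noncomputable def ent (f b v : ℕ) : ℕ :=
  Nat.xor v (Nat.lor
    (Nat.shiftLeft (Nat.add b (nat_lit 1)) (Nat.add (Nat.mul (nat_lit 12) f) (nat_lit 64)))
    (Nat.mod (Nat.mul (Nat.add (Nat.mul (nat_lit 4096) f) b) (nat_lit 11400714819323198485))
      (nat_lit 18446744073709551616)))

theorem ent_def (f b v : ℕ) : ent f b v = v ^^^ (((b + 1) <<< (12 * f + 64)) |||
    ((4096 * f + b) * 11400714819323198485 % 18446744073709551616)) := rfl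

theorem ent_spec {f b : ℕ} (hb : b + 1 < 4096) (v f' : ℕ) :
    (ent f b v >>> (12 * f' + 64)) % 4096 =
      ((v >>> (12 * f' + 64)) % 4096) ^^^ (if f' = f then b + 1 else 0) := by
  have e : (4096 : ℕ) = 2 ^ 12 := rfl
  rw [ent_def]
  set r := (4096 * f + b) * 11400714819323198485 % 18446744073709551616 with hr
  have hr' : r < 2 ^ 64 := by
    rw [hr]; exact Nat.mod_lt _ (by norm_num)
  rw [e] at hb ⊢
  apply Nat.eq_of_testBit_eq
  intro j
  rw [Nat.testBit_mod_two_pow, Nat.testBit_shiftRight, Nat.testBit_xor, Nat.testBit_or,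
    Nat.testBit_shiftLeft, Nat.testBit_xor, Nat.testBit_mod_two_pow, Nat.testBit_shiftRight,
    Nat.testBit_lt_two_pow (lt_of_lt_of_le hr' (Nat.pow_le_pow_right (by norm_num)
      (show 64 ≤ 12 * f' + 64 + j by omega))), Bool.or_false]
  by_cases hj : j < 12
  · simp only [hj, decide_true, Bool.true_and]
    congr 1
    by_cases hf : f' = f
    · subst hf
      simp
    · rw [if_neg hf, Nat.zero_testBit]
      by_cases hlt : f < f'
      · have : 12 * f' + 64 + j - (12 * f + 64) ≥ 12 := by omega
        rw [Nat.testBit_lt_two_pow (lt_of_lt_of_le hb (Nat.pow_le_pow_right (by norm_num) this)),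
          Bool.and_false]
      · have : ¬ (12 * f' + 64 + j ≥ 12 * f + 64) := by omega
        simp [this]
  · simp only [hj, decide_false, Bool.false_and, Bool.false_xor]
    split
    · rw [Nat.testBit_lt_two_pow (lt_of_lt_of_le hb (Nat.pow_le_pow_right (by norm_num) (by omega)))]
    · rw [Nat.zero_testBit]

/-- enter a value in the table -/
noncomputable def put (s : St) (g : Lt) (f b : ℕ) : St := modT s g (ent f b)

/-- enter a value in the table, continuation form -/
noncomputable def putK {β : Type v} (s : St) (g : Lt) (f b : ℕ) (k : St → β) : β :=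
  modTK s g (ent f b) k

theorem putK_eq {β : Type v} (s : St) (g : Lt) (f b : ℕ) (k : St → β) :
    putK s g f b k = k (put s g f b) := modTK_eq _ _ _ _

theorem look_put {s : St} {g : Lt} {f b : ℕ} (hb : b + 1 < 4096) (h0 : look s g f = 0)
    (g' : Lt) (f' : ℕ) :
    look (put s g f b) g' f' = if g' = g ∧ f' = f then b + 1 else look s g' f' := by
  rw [look_def] at h0 ⊢
  rw [look_def, put, tab_modT]
  by_cases hg : g' = g
  · subst hg
    rw [if_pos rfl, ent_spec hb]
    by_cases hf : f' = f
    · subst hf
      simp [h0]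
    · simp [hf]
  · simp [hg]

/-- backward tracing; the value is `0` if stuck, `m + 1` otherwise -/
noncomputable def bwd (s : St) (n : ℕ) (w : List Lt) : ℕ :=
  List.rec (Nat.succ n) (fun g _ ih => Nat.rec (nat_lit 0) (fun m _ => look s g m) ih) w

/-- scanning of a relator `w` at the node `n`, the current position being `f` -/
noncomputable def scan {β : Type v} (s : St) (n : ℕ) (k : Lt → ℕ → ℕ → β) (d : β) (w : List Lt) :
    ℕ → β :=
  List.rec (fun _ => d) (fun g w ih f =>
    Nat.rec (Nat.rec d (fun b _ => k g f b) (bwd s n w)) (fun m _ => ih m) (look s g f)) w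

/-- enter an edge in both directions -/
noncomputable def edge {β : Type v} (s : St) (k : St → β) (g : Lt) (f b : ℕ) : β :=
  putK s g f b fun s' => Nat.rec (putK s' g b f k) (fun _ _ => k s') (look s' g b)

/-- one step of the machine (with `m` nodes) -/
noncomputable def step {β : Type v} (m : ℕ) (s : St) (w : List Lt) (n : ℕ) (k : St → β) : β :=
  Bool.rec (k s) (scan s n (edge s k) (k s) w n) (Nat.ble (Nat.add n (nat_lit 1)) m)

/-- a segment: the relator `w` is scanned at the nodes which are the `c` digits of `N` -/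
noncomputable def seg {β : Type v} (m : ℕ) (w : List Lt) (k : St → β) (c : ℕ) : St → ℕ → β :=
  Nat.rec (fun s _ => k s) (fun _ ih s N =>
    force (Nat.mod N (nat_lit 4096)) fun n => step m s w n fun s' =>
      force (Nat.div N (nat_lit 4096)) fun N' => ih s' N') c

/-- segments -/
structure Seg : Type where
  /-- relator -/
  w : List Lt
  /-- number of nodes -/
  c : ℕ
  /-- the nodes -/
  N : ℕ

/-- run a list of segments -/
noncomputable def run {β : Type v} (m : ℕ) (k : St → β) (l : List Seg) : St → β :=
  List.rec k (fun p _ ih s => Seg.rec (fun w c N => seg m w ih c s N) p) l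

/-- four values from the residue modulo `4` -/
noncomputable def q4 (n : ℕ) : Q :=
  Nat.rec Q.a (fun n _ => Nat.rec Q.b (fun n _ => Nat.rec Q.c (fun _ _ => Q.d) n) n)
    (Nat.mod n (nat_lit 4))

/-- letters `0, …, 7` -/
noncomputable def lt8 (n : ℕ) : Lt := ⟨q4 (Nat.div (Nat.mod n (nat_lit 8)) (nat_lit 4)), q4 n⟩

/-- the spanning tree: new nodes `m, m + 1, …`, the digits (base `2 ^ 15`) of `N` are
`8 * parent + letter`. -/
noncomputable def tree {β : Type v} (k : St → ℕ → β) (c : ℕ) : St → ℕ → ℕ → β :=
  Nat.rec (fun s m _ => k s m) (fun _ ih s m N =>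
    force (Nat.mod N (nat_lit 32768)) fun x => force (Nat.div x (nat_lit 8)) fun p =>
      Bool.rec (k s m) (Bool.rec (k s m)
        (Nat.rec (putK s (lt8 x) p m fun s' => putK s' (lt8 x) m p fun s'' =>
          force (Nat.add m (nat_lit 1)) fun m' =>
            force (Nat.div N (nat_lit 32768)) fun N' => ih s'' m' N') (fun _ _ => k s m)
          (look s (lt8 x) p)) (Nat.ble m (nat_lit 4093))) (Nat.ble (Nat.add p (nat_lit 1)) m)) c

/-- loops at the node `0` -/
noncomputable def loops {β : Type v} (k : St → β) (l : List Lt) : St → β :=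
  List.rec k (fun g _ ih s => Nat.rec (putK s g (nat_lit 0) (nat_lit 0) ih) (fun _ _ => k s)
    (look s g (nat_lit 0))) l

/-- all the entries `look s g n`, `n < c`, are known, for one letter -/
noncomputable def full1 (s : St) (g : Lt) (c : ℕ) : Bool :=
  Nat.rec true (fun n ih => Nat.rec false (fun _ _ => ih) (look s g n)) c

/-- all the entries are known for all letters of a list -/
noncomputable def full (s : St) (c : ℕ) (l : List Lt) : Bool :=
  List.rec true (fun g _ ih => Bool.rec false ih (full1 s g c)) l

/-- comparison of states -/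
noncomputable def beqP {α : Type} (f : α → α → Bool) (s t : P α) : Bool :=
  P.rec (fun a b c d => P.rec (fun a' b' c' d' =>
    Bool.rec false (Bool.rec false (Bool.rec false (f d d') (f c c')) (f b b')) (f a a')) t) s

/-- comparison of states -/
noncomputable def beqSt (s t : St) : Bool := beqP (beqP Nat.beq) s t

theorem beqP_eq {α : Type} {f : α → α → Bool} (hf : ∀ x y, f x y = true → x = y) (s t : P α)
    (h : beqP f s t = true) : s = t := by
  obtain ⟨a, b, c, d⟩ := s
  obtain ⟨a', b', c', d'⟩ := t
  have h' : (Bool.rec false (Bool.rec false (Bool.rec false (f d d') (f c c')) (f b b'))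
    (f a a') : Bool) = true := h
  cases h1 : f a a'
  · rw [h1] at h'; exact absurd h' Bool.false_ne_true
  · rw [h1] at h'
    cases h2 : f b b'
    · rw [h2] at h'; exact absurd h' Bool.false_ne_true
    · rw [h2] at h'
      cases h3 : f c c'
      · rw [h3] at h'; exact absurd h' Bool.false_ne_true
      · rw [h3] at h'
        rw [hf _ _ h1, hf _ _ h2, hf _ _ h3, hf _ _ h']

theorem beqSt_eq {s t : St} (h : beqSt s t = true) : s = t :=
  beqP_eq (fun _ _ h => beqP_eq (fun _ _ h => Nat.eq_of_beq_eq_true h) _ _ h) _ _ h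

end Cfsg.Agent.Omega.TitsIso.Machine
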