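import Cfsg.Agent.Omega.TitsIso.TitsSideRel

/-!
# Eight central involutions of an apartment generate the Tits group
-/

set_option autoImplicit false

namespace Cfsg.Agent.Omega.TitsIso.TitsSide

open Cfsg.Agent.ChevalleyStructure.Tits.Pack Cfsg.Agent.ChevalleyStructure.Tits.Data
  Cfsg.Agent.ChevalleyStructure.Tits.Sat Cfsg.Agent.ChevalleyStructure.Tits.Final
  Cfsg.Agent.ChevalleyStructure.Tits.Mat Cfsg.Agent.ChevalleyStructure.Tits.Order
  Cfsg.Agent.ChevalleyStructure.Tits.Main Cfsg.Agent.Omega.TitsIso.TitsSideRel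

open scoped MatrixGroups

/-- the eight involutions in `H0` -/
noncomputable def ZH (i : ZMod 8) : H0 := ((zw i).map yH).prod

theorem rel_H {p : List ℕ × List ℕ} (h : chk p = true) (h1 : ∀ i ∈ p.1, i < 10) (h2 : ∀ i ∈ p.2, i < 10) :
    (p.1.map yH).prod = (p.2.map yH).prod := by
  apply Subtype.ext
  rw [coe_list _ h1, coe_list _ h2]
  exact rel_of_chk h (fun i hi => by have := h1 i hi; omega) (fun i hi => by have := h2 i hi; omega)

theorem zw_lt : ∀ i : ZMod 8, ∀ k ∈ zw i, k < 10 := by decide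

theorem zz_lt (l : List (ZMod 8)) : ∀ k ∈ zz l, k < 10 := by
  intro k hk
  unfold zz at hk
  rw [List.mem_flatMap] at hk
  obtain ⟨i, _, hi⟩ := hk
  exact zw_lt i k hi

theorem prod_zz (l : List (ZMod 8)) : ((zz l).map yH).prod = (l.map ZH).prod := by
  induction l with
  | nil => rfl
  | cons a l ih =>
    have h : zz (a :: l) = zw a ++ zz l := rfl
    rw [h, List.map_append, List.prod_append, ih, List.map_cons, List.prod_cons]
    rfl

theorem rel_zz {l m : List (ZMod 8)} (h : chk (zz l, zz m) = true) : (l.map ZH).prod = (m.map ZH).prod := by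
  rw [← prod_zz, ← prod_zz]
  exact rel_H h (zz_lt l) (zz_lt m)

theorem zz_nil : zz [] = [] := rfl

theorem zz_append (l m : List (ZMod 8)) : zz (l ++ m) = zz l ++ zz m := by
  unfold zz
  rw [List.flatMap_append]

theorem zz_one (i : ZMod 8) : zw i = zz [i] := by
  unfold zz
  simp

theorem ZH_sq (i : ZMod 8) : ZH i * ZH i = 1 := by
  have h := rel_zz (l := [i, i]) (m := []) (r_sq i)
  simpa using h

theorem ZH_c1 (i : ZMod 8) : ZH i * ZH (i + 1) = ZH (i + 1) * ZH i := by
  have h := rel_zz (r_c1 i)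
  simpa using h

theorem ZH_c2 (i : ZMod 8) : ZH i * ZH (i + 2) = ZH (i + 2) * ZH i := by
  have h := rel_zz (r_c2 i)
  simpa using h

theorem ZH_o4 (i : ZMod 8) : (ZH i * ZH (i + 3)) ^ 4 = 1 := by
  have h := rel_zz (m := []) (r_o4 i)
  simp only [List.map_cons, List.map_nil, List.prod_cons, List.prod_nil, mul_one] at h
  rw [← h]
  simp only [pow_succ, pow_zero, one_mul, mul_assoc]

theorem ZH_o5 (i : ZMod 8) : (ZH i * ZH (i + 4)) ^ 5 = 1 := by
  have h := rel_zz (m := []) (r_o5 i)
  simp only [List.map_cons, List.map_nil, List.prod_cons, List.prod_nil, mul_one] at h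
  rw [← h]
  simp only [pow_succ, pow_zero, one_mul, mul_assoc]

/-- the elements `C i` -/
noncomputable def CH (i : ZMod 8) : H0 := (ZH (i - 1) * ZH (i + 2)) ^ 2 * (ZH i * ZH (i + 1))

theorem ZH_r (i : ZMod 8) : CH i * ZH (i + 3) = ZH (i + 2) * ZH (i + 3) * CH i := by
  have h := rel_zz (l := [i - 1, i + 2, i - 1, i + 2, i, i + 1] ++ [i + 3])
    (m := [i + 2, i + 3] ++ [i - 1, i + 2, i - 1, i + 2, i, i + 1])
    (by rw [zz_append, zz_append, ← zz_one (i + 3)]; exact r_r i)
  simp only [List.map_append, List.prod_append, List.map_cons, List.map_nil, List.prod_cons, List.prod_nil,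
    mul_one] at h
  unfold CH
  simp only [pow_two, mul_assoc] at h ⊢
  exact h

theorem ZH_l (i : ZMod 8) : CH i * ZH (i - 2) = ZH (i - 1) * ZH (i - 2) * CH i := by
  have h := rel_zz (l := [i - 1, i + 2, i - 1, i + 2, i, i + 1] ++ [i - 2])
    (m := [i - 1, i - 2] ++ [i - 1, i + 2, i - 1, i + 2, i, i + 1])
    (by rw [zz_append, zz_append, ← zz_one (i - 2)]; exact r_l i)
  simp only [List.map_append, List.prod_append, List.map_cons, List.map_nil, List.prod_cons, List.prod_nil,
    mul_one] at h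
  unfold CH
  simp only [pow_two, mul_assoc] at h ⊢
  exact h

/-! ### the subgroup generated by the eight involutions -/

/-- the subgroup generated by the eight involutions -/
noncomputable def MH : Subgroup H0 := Subgroup.closure (Set.range ZH)

theorem ZH_mem (i : ZMod 8) : ZH i ∈ MH := Subgroup.subset_closure ⟨i, rfl⟩

theorem prod_mem_MH (l : List (ZMod 8)) : (l.map ZH).prod ∈ MH := by
  apply Subgroup.list_prod_mem
  intro x hx
  rw [List.mem_map] at hx
  obtain ⟨i, _, rfl⟩ := hx
  exact ZH_mem i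

theorem conj_mem_MH {k : ℕ} (hk : k < 10) {c : List (List (ZMod 8))}
    (h : ∀ i : ZMod 8, chk ([k] ++ zw i, zz (c.getD i.val []) ++ [k]) = true) (i : ZMod 8) :
    yH k * ZH i * (yH k)⁻¹ ∈ MH := by
  have h1 := rel_H (h i)
    (fun j hj => by
      rcases List.mem_append.1 hj with hj | hj
      · rw [List.mem_singleton] at hj; rw [hj]; exact hk
      · exact zw_lt i j hj)
    (fun j hj => by
      rcases List.mem_append.1 hj with hj | hj
      · exact zz_lt _ j hj
      · rw [List.mem_singleton] at hj; rw [hj]; exact hk)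
  simp only [List.map_append, List.prod_append, List.map_cons, List.map_nil, List.prod_cons, List.prod_nil,
    mul_one, prod_zz] at h1
  have h2 : yH k * ZH i = ((c.getD i.val []).map ZH).prod * yH k := h1
  rw [h2, mul_inv_cancel_right]
  exact prod_mem_MH _

theorem mem_normalizer_of_conj {Γ : Type*} [Group Γ] [Finite Γ] {M : Subgroup Γ} {g : Γ}
    (h : M.map (MulAut.conj g).toMonoidHom ≤ M) : g ∈ Subgroup.normalizer (M : Set Γ) := by
  have h1 : M.map (MulAut.conj g).toMonoidHom = M := by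
    apply Subgroup.eq_of_le_of_card_ge h
    rw [Nat.card_congr (M.equivMapOfInjective (MulAut.conj g).toMonoidHom (MulAut.conj g).injective).toEquiv]
  rw [Subgroup.mem_normalizer_iff]
  intro x
  constructor
  · intro hx
    have : g * x * g⁻¹ ∈ M.map (MulAut.conj g).toMonoidHom := ⟨x, hx, rfl⟩
    rwa [h1] at this
  · intro hx
    rw [← h1] at hx
    obtain ⟨y, hy, hyx⟩ := hx
    have : y = x := by
      have h2 : g * y * g⁻¹ = g * x * g⁻¹ := hyx
      simpa using h2
    rwa [← this]

theorem mem_norm {g : H0} (h : ∀ i, g * ZH i * g⁻¹ ∈ MH) : g ∈ Subgroup.normalizer (MH : Set H0) := by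
  apply mem_normalizer_of_conj
  have h1 : MH.map (MulAut.conj g).toMonoidHom = Subgroup.closure ((MulAut.conj g).toMonoidHom '' Set.range ZH) := by
    unfold MH
    exact MonoidHom.map_closure _ _
  rw [h1, Subgroup.closure_le]
  rintro _ ⟨_, ⟨i, rfl⟩, rfl⟩
  exact h i

theorem MH_normal : MH.Normal := by
  rw [← Subgroup.normalizer_eq_top_iff, eq_top_iff, ← gen_yH]
  exact gen4 Sat_yH _ (mem_norm (conj_mem_MH (by norm_num) r_n0)) (mem_norm (conj_mem_MH (by norm_num) r_n7))
    (mem_norm (conj_mem_MH (by norm_num) r_n8)) (mem_norm (conj_mem_MH (by norm_num) r_n9))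

theorem ZH_mem_comm (i : ZMod 8) : ZH i ∈ commutator H0 := by
  have mm : ∀ a b : H0, a * b ∈ commutator H0 ↔ (a ∈ commutator H0 ↔ b ∈ commutator H0) :=
    fun a b => Subgroup.mul_mem_iff_of_index_two H0_result.1
  have key : ∀ l : List ℕ, l ∈ zws → (l.map yH).prod ∈ commutator H0 := by
    intro l hl
    unfold zws at hl
    simp only [List.mem_cons, List.not_mem_nil, or_false] at hl
    by_cases h7 : yH 7 ∈ commutator H0 <;> by_cases h8 : yH 8 ∈ commutator H0 <;>
      by_cases h9 : yH 9 ∈ commutator H0 <;>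
      rcases hl with rfl | rfl | rfl | rfl | rfl | rfl | rfl | rfl <;>
      simp [mm, h7, h8, h9]
  exact key _ (by revert i; decide)

theorem ZH_zero_ne : ZH 0 ≠ 1 := by
  intro h
  have h1 := not_mem_V 1 (by norm_num)
  apply h1
  have h2 : ((ZH 0 : H0) : GL I52 (ZMod 2)) = ([1, 1].map yG).prod := by
    have h3 : ZH 0 = ([1, 1].map yH).prod := rfl
    rw [h3, coe_list _ (by decide)]
  have h4 : ((if 1 % 2 = 0 then [1] else [1, 1]).map yG).prod = ([1, 1].map yG).prod := rfl
  rw [h4, ← h2, h]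
  exact Subgroup.one_mem _

/-- the eight involutions in the derived subgroup -/
noncomputable def ZC (i : ZMod 8) : ↥(commutator H0) := ⟨ZH i, ZH_mem_comm i⟩

theorem closure_ZC : Subgroup.closure (Set.range ZC) = ⊤ := by
  have hs := H0_result.2.1
  set M := Subgroup.closure (Set.range ZC) with hM
  have hmap : M.map (commutator H0).subtype = MH := by
    rw [hM, MonoidHom.map_closure]
    unfold MH
    congr 1
    rw [← Set.range_comp]
    rfl
  have hn : M.Normal := by
    constructor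
    intro n hn g
    have h1 : (commutator H0).subtype n ∈ MH := by rw [← hmap]; exact ⟨n, hn, rfl⟩
    have h2 := MH_normal.conj_mem _ h1 ((commutator H0).subtype g)
    rw [← hmap] at h2
    obtain ⟨m, hm, hmg⟩ := h2
    have h3 : m = g * n * g⁻¹ := by
      apply (commutator H0).subtype_injective
      rw [hmg]
      simp
    rwa [← h3]
  rcases hn.eq_bot_or_eq_top with h | h
  · exfalso
    have h1 : ZC 0 ∈ M := Subgroup.subset_closure ⟨0, rfl⟩
    rw [h, Subgroup.mem_bot] at h1
    have h2 : ((ZC 0 : ↥(commutator H0)) : H0) = ((1 : ↥(commutator H0)) : H0) := by rw [h1]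
    have h3 : ((ZC 0 : ↥(commutator H0)) : H0) = ZH 0 := rfl
    rw [h3, Subgroup.coe_one] at h2
    exact ZH_zero_ne h2
  · exact h

/-! ### the relations in the derived subgroup and the group of the definition -/

/-- the element `C i` of a family -/
def cc {M : Type*} [Group M] (Z : ZMod 8 → M) (i : ZMod 8) : M :=
  (Z (i - 1) * Z (i + 2)) ^ 2 * (Z i * Z (i + 1))

/-- The eight relations. -/
def Rels {M : Type*} [Group M] (Z : ZMod 8 → M) : Prop :=
  (∀ i, Z i * Z i = 1) ∧ (∀ i, Z i * Z (i + 1) = Z (i + 1) * Z i) ∧ (∀ i, Z i * Z (i + 2) = Z (i + 2) * Z i) ∧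
  (∀ i, (Z i * Z (i + 3)) ^ 4 = 1) ∧ (∀ i, (Z i * Z (i + 4)) ^ 5 = 1) ∧
  (∀ i, cc Z i * Z (i + 3) * (cc Z i)⁻¹ = Z (i + 2) * Z (i + 3)) ∧
  (∀ i, cc Z i * Z (i - 2) * (cc Z i)⁻¹ = Z (i - 1) * Z (i - 2))

theorem rels_ZH : Rels ZH := by
  refine ⟨ZH_sq, ZH_c1, ZH_c2, ZH_o4, ZH_o5, fun i => ?_, fun i => ?_⟩
  · rw [mul_inv_eq_iff_eq_mul]
    exact ZH_r i
  · rw [mul_inv_eq_iff_eq_mul]
    exact ZH_l i

theorem rels_of_injective {M N : Type*} [Group M] [Group N] {Z : ZMod 8 → M} (f : M →* N)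
    (hf : Function.Injective f) (h : Rels fun i => f (Z i)) : Rels Z := by
  have hc : ∀ i, cc (fun i => f (Z i)) i = f (cc Z i) := fun i => by
    unfold cc
    simp only [map_mul, map_pow]
  obtain ⟨h1, h2, h3, h4, h5, h6, h7⟩ := h
  refine ⟨fun i => hf ?_, fun i => hf ?_, fun i => hf ?_, fun i => hf ?_, fun i => hf ?_, fun i => hf ?_,
    fun i => hf ?_⟩
  · rw [map_mul, map_one]; exact h1 i
  · rw [map_mul, map_mul]; exact h2 i
  · rw [map_mul, map_mul]; exact h3 i
  · rw [map_pow, map_mul, map_one]; exact h4 i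
  · rw [map_pow, map_mul, map_one]; exact h5 i
  · rw [map_mul, map_mul, map_mul, map_inv, ← hc]; exact h6 i
  · rw [map_mul, map_mul, map_mul, map_inv, ← hc]; exact h7 i

theorem rels_ZC : Rels ZC :=
  rels_of_injective (commutator H0).subtype (commutator H0).subtype_injective rels_ZH

theorem exists_of_eq (K : Subgroup (GL I52 (ZMod 2))) (hK : K = H0) :
    ∃ Z : ZMod 8 → ↥(commutator K), Rels Z ∧ Subgroup.closure (Set.range Z) = ⊤ := by
  subst hK
  exact ⟨ZC, rels_ZC, closure_ZC⟩

/-- **The Tits group is generated by the eight central involutions of an apartment.** -/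
theorem exists_rels : ∃ Z : ZMod 8 → Cfsg.Lie.TitsGroup, Rels Z ∧ Subgroup.closure (Set.range Z) = ⊤ :=
  exists_of_eq (Cfsg.Lie.twistedF4 (ZMod 2) 1) T0_eq_H0

theorem facts : IsSimpleGroup Cfsg.Lie.TitsGroup ∧ ¬ IsMulCommutative Cfsg.Lie.TitsGroup ∧
    Nat.card Cfsg.Lie.TitsGroup = 17971200 := by
  have h := result_aux (Cfsg.Lie.twistedF4 (ZMod 2) 1) T0_eq_H0
  exact ⟨h.2.1, h.2.2.1, h.2.2.2.trans (by norm_num)⟩

end Cfsg.Agent.Omega.TitsIso.TitsSide
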