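import Cfsg.Agent.ChevalleyStructure.Tits.Main

/-!
# Eight central involutions of an apartment of the Tits group: relations

The letters `y 0, …, y 9` are those of `ChevalleyStructure/Tits/Data` (the eight positive root generators of ²F₄(2) and
the two reflections). `Z i` is the central involution of the root group of index `2 i + 1` (sixteen roots), i.e. the
square of a generator of order `4`.
-/

set_option autoImplicit false

namespace Cfsg.Agent.Omega.TitsIso.TitsSideRel

open Cfsg.Agent.ChevalleyStructure.Tits.Pack Cfsg.Agent.ChevalleyStructure.Tits.Data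
  Cfsg.Agent.ChevalleyStructure.Tits.Sat Cfsg.Agent.ChevalleyStructure.Tits.Final
  Cfsg.Agent.ChevalleyStructure.Tits.Mat Cfsg.Agent.ChevalleyStructure.Tits.Order
  Cfsg.Agent.ChevalleyStructure.Tits.Main

/-- words of the eight involutions -/
def zws : List (List ℕ) := [
  [1, 1], [3, 3], [5, 5], [7, 7],
  [8, 9, 7, 7, 9, 8], [8, 9, 8, 9, 7, 7, 9, 8, 9, 8], [9, 8, 9, 7, 7, 9, 8, 9], [9, 7, 7, 9]]

/-- word of the involution with index `i` -/
def zw (i : ZMod 8) : List ℕ := zws.getD i.val []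

/-- word of a product of the involutions -/
def zz (l : List (ZMod 8)) : List ℕ := l.flatMap zw

/-- word of the element `C i` -/
def cw (i : ZMod 8) : List ℕ := zz [i - 1, i + 2, i - 1, i + 2, i, i + 1]

theorem r_sq : ∀ i : ZMod 8, chk (zz [i, i], []) = true := by decide +kernel

theorem r_c1 : ∀ i : ZMod 8, chk (zz [i, i + 1], zz [i + 1, i]) = true := by decide +kernel

theorem r_c2 : ∀ i : ZMod 8, chk (zz [i, i + 2], zz [i + 2, i]) = true := by decide +kernel

theorem r_o4 : ∀ i : ZMod 8, chk (zz [i, i + 3, i, i + 3, i, i + 3, i, i + 3], []) = true := by decide +kernel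

theorem r_o5 : ∀ i : ZMod 8, chk (zz [i, i + 4, i, i + 4, i, i + 4, i, i + 4, i, i + 4], []) = true := by
  decide +kernel

theorem r_r : ∀ i : ZMod 8, chk (cw i ++ zw (i + 3), zz [i + 2, i + 3] ++ cw i) = true := by decide +kernel

theorem r_l : ∀ i : ZMod 8, chk (cw i ++ zw (i - 2), zz [i - 1, i - 2] ++ cw i) = true := by decide +kernel

/-- `y 0 * Z i * (y 0)⁻¹` as a word in the involutions -/
def c0 : List (List (ZMod 8)) := [
  [0], [1], [5, 2, 5, 4, 1, 4, 5, 2, 5], [5, 2, 5, 4, 3, 0, 3, 4, 5, 2, 5], [7, 1, 6, 1, 0, 4, 0, 1, 6, 1, 7],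
  [1, 6, 1, 0, 5, 0, 1, 6, 1], [6], [7]]

/-- `y 7 * Z i * (y 7)⁻¹` as a word in the involutions -/
def c7 : List (List (ZMod 8)) := [
  [7, 3, 0, 3, 7], [1], [2], [3], [4], [5], [3, 7, 4, 7, 3], [3, 7, 3, 7, 3]]

/-- `y 8 * Z i * (y 8)⁻¹` as a word in the involutions -/
def c8 : List (List (ZMod 8)) := [[3], [2], [1], [0], [7], [6], [5], [4]]

/-- `y 9 * Z i * (y 9)⁻¹` as a word in the involutions -/
def c9 : List (List (ZMod 8)) := [[2], [1], [0], [7], [6], [5], [4], [3]]

theorem r_n0 : ∀ i : ZMod 8, chk ([0] ++ zw i, zz (c0.getD i.val []) ++ [0]) = true := by decide +kernel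

theorem r_n7 : ∀ i : ZMod 8, chk ([7] ++ zw i, zz (c7.getD i.val []) ++ [7]) = true := by decide +kernel

theorem r_n8 : ∀ i : ZMod 8, chk ([8] ++ zw i, zz (c8.getD i.val []) ++ [8]) = true := by decide +kernel

theorem r_n9 : ∀ i : ZMod 8, chk ([9] ++ zw i, zz (c9.getD i.val []) ++ [9]) = true := by decide +kernel

end Cfsg.Agent.Omega.TitsIso.TitsSideRel
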